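import Groth.Agent.Lib.AVDual
import Groth.Agent.H23.PicInv

/-!
Translations as isomorphisms, and translates of classes that are trivial on both axes.
-/

set_option linter.style.haveILetI false
set_option linter.unusedSectionVars false
set_option backward.isDefEq.respectTransparency false
set_option backward.isDefEq.respectTransparency.types false
set_option autoImplicit false

universe u

open CategoryTheory CategoryTheory.Limits MonoidalCategory CartesianMonoidalCategory MonObj AlgebraicGeometry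

namespace Groth.Agent.FMX

open Groth.Agent.H23 Groth.Agent.AVPair
open scoped Groth.Agent.H23.PicMul

variable {S : Scheme.{u}} {G : Over S} [GrpObj G]

theorem transl_comp (x y : 𝟙_ (Over S) ⟶ G) :
    (𝟙 G * (toUnit G ≫ x)) ≫ (𝟙 G * (toUnit G ≫ y)) = 𝟙 G * (toUnit G ≫ (x * y)) := by
  rw [MonObj.comp_mul, Category.comp_id, ← Category.assoc, toUnit_unique (_ ≫ toUnit G) (toUnit G),
    MonObj.comp_mul, _root_.mul_assoc]

theorem transl_one : (𝟙 G * (toUnit G ≫ (1 : 𝟙_ (Over S) ⟶ G))) = 𝟙 G := by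
  rw [MonObj.comp_one, _root_.mul_one]

/-- The translation by a point as an isomorphism. -/
noncomputable def translIso (x : 𝟙_ (Over S) ⟶ G) : G ≅ G where
  hom := 𝟙 G * (toUnit G ≫ x)
  inv := 𝟙 G * (toUnit G ≫ x⁻¹)
  hom_inv_id := by rw [transl_comp, mul_inv_cancel, transl_one]
  inv_hom_id := by rw [transl_comp, inv_mul_cancel, transl_one]

variable {k : Type u} [Field k] {X Y : Over (Spec (CommRingCat.of k))}
  [GrpObj X] [IsProper X.hom] [GeometricallyIntegral X.hom]
  [GrpObj Y] [IsProper Y.hom] [GeometricallyIntegral Y.hom]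

/-- Translating in the second variable. -/
theorem pl_whiskerLeft_transl {c : PicF.Cl (X ⊗ Y).left} (hc : PicF.IsInvertibleCl c)
    (h1 : pl (lift (1 : Y ⟶ X) (𝟙 Y)) c = 1) (h2 : pl (lift (𝟙 X) (1 : X ⟶ Y)) c = 1)
    (x : 𝟙_ (Over (Spec (CommRingCat.of k))) ⟶ Y) :
    pl (fst X Y) (pl (lift (𝟙 X) (toUnit X ≫ x)) c) * c = pl (X ◁ (𝟙 Y * (toUnit Y ≫ x))) c := by
  have e : X ◁ (𝟙 Y * (toUnit Y ≫ x)) = lift (fst X Y) (snd X Y * (toUnit (X ⊗ Y) ≫ x)) :=
    CartesianMonoidalCategory.hom_ext _ _ (by simp) (by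
      rw [lift_snd, whiskerLeft_snd, MonObj.comp_mul, Category.comp_id, ← Category.assoc,
        toUnit_unique (_ ≫ toUnit Y) (toUnit _)])
  rw [e, add_right hc h1 h2, lift_fst_snd, pl_id, pl_pl, comp_lift, Category.comp_id, ← Category.assoc,
    toUnit_unique (_ ≫ toUnit X) (toUnit _), mul_comm]

/-- Translating in the first variable. -/
theorem pl_whiskerRight_transl {c : PicF.Cl (X ⊗ Y).left} (hc : PicF.IsInvertibleCl c)
    (h1 : pl (lift (1 : Y ⟶ X) (𝟙 Y)) c = 1) (h2 : pl (lift (𝟙 X) (1 : X ⟶ Y)) c = 1)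
    (x : 𝟙_ (Over (Spec (CommRingCat.of k))) ⟶ X) :
    c * pl (snd X Y) (pl (lift (toUnit Y ≫ x) (𝟙 Y)) c) = pl ((𝟙 X * (toUnit X ≫ x)) ▷ Y) c := by
  have e : (𝟙 X * (toUnit X ≫ x)) ▷ Y = lift (fst X Y * (toUnit (X ⊗ Y) ≫ x)) (snd X Y) :=
    CartesianMonoidalCategory.hom_ext _ _ (by
      rw [lift_fst, whiskerRight_fst, MonObj.comp_mul, Category.comp_id, ← Category.assoc,
        toUnit_unique (_ ≫ toUnit X) (toUnit _)]) (by simp)
  rw [e, add_left hc h1 h2, lift_fst_snd, pl_id, pl_pl, comp_lift, Category.comp_id, ← Category.assoc,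
    toUnit_unique (_ ≫ toUnit Y) (toUnit _)]

end Groth.Agent.FMX
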