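import Groth.Agent.FMX.Derived
import Groth.Agent.PerfD40.BC.Main
import Groth.Agent.PerfD40.RpushPerfect
import Groth.Agent.AVSupp.Twist

/-!
Functorial base change and one-term objects in the calculus of integral transforms.
-/

set_option autoImplicit false
set_option linter.style.haveILetI false
set_option linter.unusedSectionVars false
set_option backward.isDefEq.respectTransparency false
set_option backward.isDefEq.respectTransparency.types false

universe u

open CategoryTheory CategoryTheory.Limits AlgebraicGeometry TopologicalSpace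
attribute [local instance] HasDerivedCategory.standard

noncomputable section

namespace Groth.Agent.FMX

open KFlatLib Groth.Agent.H23

variable {X Y X' Y' : Scheme.{u}}

theorem isQCohD_inD {M : X.Modules} (hM : Coh.IsQCoh M) : DCoh.IsQCohD (DCoh.inD X M) := by
  let S := (CochainComplex.singleFunctor X.Modules 0).obj M
  refine (isQCohD_Q_iff S).2 fun i => ?_
  by_cases hi : i = 0
  · subst hi
    exact isQCoh_of_iso ((HomologicalComplex.homologyFunctorSingleIso X.Modules (ComplexShape.up ℤ) 0).app M).symm hM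
  · exact KFlatLib.isQCoh_of_isZero (HomologicalComplex.ExactAt.isZero_homology
      (HomologicalComplex.exactAt_single_obj _ _ _ _ hi))

/-- Twists by invertible modules preserve quasi-coherence of cohomology. -/
theorem isQCohD_ltm {M : X.Modules} (hM : PicF.IsInvertible M) [DCoh.HasLTensorMod M] {E : DCoh.D X}
    (hE : DCoh.IsQCohD E) : DCoh.IsQCohD ((DCoh.LTensorMod M).obj E) := fun i => by
  haveI := hasLTensorCx ((HomologicalComplex.single X.Modules (ComplexShape.up ℤ) 0).obj M)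
  exact isQCoh_of_iso (PerfD40.nonempty_hd_ltensorMod_single E M i).some.symm
    (isQCohD_ltensor ((HomologicalComplex.single X.Modules (ComplexShape.up ℤ) 0).obj M)
      (isQCohD_inD (QCoh.isQCoh_of_isFinLocFree (PullPush.isFinLocFree_of_isInvertible hM))) hE i)

/-- The derived twist of a module by an invertible module. -/
theorem nonempty_ltm_inD {M : X.Modules} (hM : PicF.IsInvertible M) [DCoh.HasLTensorMod M] (N : X.Modules) :
    Nonempty ((DCoh.LTensorMod M).obj (DCoh.inD X N) ≅ DCoh.inD X (CohB1.tensorMod N M)) := by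
  haveI := AVSupp.isEquivalence_tensorRightMod hM
  let T := DCoh.tensorRightMod M
  let S := (CochainComplex.singleFunctor X.Modules 0).obj N
  haveI := (flatCover X).quasiIso_ψ S
  haveI : QuasiIso ((T.mapHomologicalComplex (ComplexShape.up ℤ)).map ((flatCover X).ψ.app S)) := inferInstance
  haveI : IsIso (DerivedCategory.Q.map ((tensorModCx M).map ((flatCover X).ψ.app S))) :=
    isIso_Q_map _ inferInstance
  exact ⟨(ltmResIso M).app S ≪≫ asIso (DerivedCategory.Q.map ((tensorModCx M).map ((flatCover X).ψ.app S))) ≪≫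
    DerivedCategory.Q.mapIso ((HomologicalComplex.singleMapHomologicalComplex T (ComplexShape.up ℤ) 0).app N)⟩

/-- The derived pullback of a module along a flat morphism. -/
theorem nonempty_lpull_inD (f : X ⟶ Y) [Flat f] [DCoh.HasLpull f] (N : Y.Modules) :
    Nonempty ((DCoh.Lpull f).obj (DCoh.inD Y N) ≅ DCoh.inD X ((Scheme.Modules.pullback f).obj N)) := by
  haveI := preservesHomology_pullback f
  let T := Scheme.Modules.pullback f
  let S := (CochainComplex.singleFunctor Y.Modules 0).obj N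
  haveI := (flatCover Y).quasiIso_ψ S
  haveI : QuasiIso ((T.mapHomologicalComplex (ComplexShape.up ℤ)).map ((flatCover Y).ψ.app S)) := inferInstance
  haveI : IsIso (DerivedCategory.Q.map ((pullCx f).map ((flatCover Y).ψ.app S))) :=
    isIso_Q_map _ inferInstance
  exact ⟨(lpullResIso f).app S ≪≫ asIso (DerivedCategory.Q.map ((pullCx f).map ((flatCover Y).ψ.app S))) ≪≫
    DerivedCategory.Q.mapIso ((HomologicalComplex.singleMapHomologicalComplex T (ComplexShape.up ℤ) 0).app N)⟩

/-- Base change, functorially in quasi-coherent objects. -/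
theorem nonempty_bc {g' : X' ⟶ X} {f' : X' ⟶ Y'} {f : X ⟶ Y} {g : Y' ⟶ Y} (H : IsPullback g' f' f g)
    [QuasiCompact f] [QuasiSeparated f] (hflat : Flat f ∨ Flat g)
    [DCoh.HasRpush f] [DCoh.HasLpull g] [DCoh.HasLpull g'] [DCoh.HasRpush f']
    {C : Type*} [Category C] (G : C ⥤ DCoh.D X) (hG : ∀ c, DCoh.IsQCohD (G.obj c)) :
    Nonempty (G ⋙ DCoh.Rpush f ⋙ DCoh.Lpull g ≅ G ⋙ DCoh.Lpull g' ⋙ DCoh.Rpush f') := by
  haveI := hasLpull f
  haveI := hasLpull f'
  obtain ⟨af⟩ := nonempty_lpull_rpush_adj f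
  obtain ⟨af'⟩ := nonempty_lpull_rpush_adj f'
  obtain ⟨c⟩ := PerfD40.BC.nonempty_cell H.w
  haveI : ∀ x, IsIso ((Functor.whiskerLeft G (PerfD40.BC.bcNat af af' c)).app x) := fun x => by
    rcases hflat with h | h
    · exact PerfD40.BC.bcAt_of_flat H (hG x) af af' c
    · exact PerfD40.BC.bcAt_flat H (hG x) af af' c
  haveI := NatIso.isIso_of_isIso_app (Functor.whiskerLeft G (PerfD40.BC.bcNat af af' c))
  exact ⟨asIso (Functor.whiskerLeft G (PerfD40.BC.bcNat af af' c))⟩

section Transform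

variable {W X₁ T : Scheme.{u}} (p : W ⟶ X₁) (q : W ⟶ T) {P : W.Modules}

/-- Base change of an integral transform on the target. -/
theorem nonempty_transform_lpull {T' W' : Scheme.{u}} {g : T' ⟶ T} {g' : W' ⟶ W} {q' : W' ⟶ T'} {p' : W' ⟶ X₁}
    (H : IsPullback g' q' q g) (hp : g' ≫ p = p') (hP : PicF.IsInvertible P) [QuasiCompact q] [QuasiSeparated q]
    (hflat : Flat q ∨ Flat g) [DCoh.HasLpull p] [DCoh.HasLTensorMod P] [DCoh.HasRpush q] [DCoh.HasLpull g]
    [DCoh.HasLpull p'] [DCoh.HasLTensorMod ((Scheme.Modules.pullback g').obj P)] [DCoh.HasRpush q'] :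
    Nonempty (ObjectProperty.ι (DCoh.IsQCohD (X := X₁)) ⋙
        (DCoh.Lpull p ⋙ DCoh.LTensorMod P ⋙ DCoh.Rpush q) ⋙ DCoh.Lpull g ≅
      ObjectProperty.ι (DCoh.IsQCohD (X := X₁)) ⋙ DCoh.Lpull p' ⋙
        DCoh.LTensorMod ((Scheme.Modules.pullback g').obj P) ⋙ DCoh.Rpush q') := by
  haveI := hasLpull g'
  haveI := hasLpull (g' ≫ p)
  let G := ObjectProperty.ι (DCoh.IsQCohD (X := X₁)) ⋙ DCoh.Lpull p ⋙ DCoh.LTensorMod P
  obtain ⟨e⟩ := nonempty_bc H hflat G fun c => isQCohD_ltm hP (isQCohD_lpull p c.2)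
  obtain ⟨e₁⟩ := nonempty_ltm_lpull g' (flat_of_isInvertible hP)
  obtain ⟨e₂⟩ := nonempty_lpull_comp g' p
  obtain ⟨e₃⟩ := nonempty_lpull_congr hp
  refine ⟨?_⟩
  exact Functor.isoWhiskerLeft _ (Functor.associator _ _ _ ≪≫
      Functor.isoWhiskerLeft _ (Functor.associator _ _ _)) ≪≫
    (Functor.associator _ _ _).symm ≪≫ (Functor.associator _ _ _).symm ≪≫ Functor.isoWhiskerRight
      (Functor.associator _ _ _) _ ≪≫ e ≪≫
    Functor.associator _ _ _ ≪≫ Functor.isoWhiskerLeft _
      (Functor.associator _ _ _ ≪≫ Functor.isoWhiskerLeft _ ((Functor.associator _ _ _).symm ≪≫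
          Functor.isoWhiskerRight e₁ _ ≪≫ Functor.associator _ _ _) ≪≫
        (Functor.associator _ _ _).symm ≪≫ Functor.isoWhiskerRight (e₂ ≪≫ e₃) _)

/-- An integral transform of a direct image. -/
theorem nonempty_rpush_transform {X' W' : Scheme.{u}} {f : X' ⟶ X₁} {p' : W' ⟶ X'} {f' : W' ⟶ W} {q' : W' ⟶ T}
    (H : IsPullback p' f' f p) (hq : f' ≫ q = q') (hP : PicF.IsInvertible P) [QuasiCompact f] [QuasiSeparated f]
    (hflat : Flat f ∨ Flat p) [DCoh.HasLpull p] [DCoh.HasLTensorMod P] [DCoh.HasRpush q] [DCoh.HasRpush f]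
    [DCoh.HasLpull p'] [DCoh.HasLTensorMod ((Scheme.Modules.pullback f').obj P)] [DCoh.HasRpush q'] :
    Nonempty (ObjectProperty.ι (DCoh.IsQCohD (X := X')) ⋙ DCoh.Rpush f ⋙
        (DCoh.Lpull p ⋙ DCoh.LTensorMod P ⋙ DCoh.Rpush q) ≅
      ObjectProperty.ι (DCoh.IsQCohD (X := X')) ⋙ DCoh.Lpull p' ⋙
        DCoh.LTensorMod ((Scheme.Modules.pullback f').obj P) ⋙ DCoh.Rpush q') := by
  haveI := hasRpush_scheme f'
  haveI := hasRpush_scheme (f' ≫ q)
  let G := ObjectProperty.ι (DCoh.IsQCohD (X := X'))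
  obtain ⟨e⟩ := nonempty_bc H hflat G fun c => c.2
  obtain ⟨e₁⟩ := nonempty_projection_invertible f' hP
  obtain ⟨e₂⟩ := nonempty_rpush_comp f' q
  obtain ⟨e₃⟩ := nonempty_rpush_congr hq
  exact ⟨Functor.isoWhiskerLeft _ (Functor.associator _ _ _).symm ≪≫ (Functor.associator _ _ _).symm ≪≫
    Functor.isoWhiskerRight e _ ≪≫ Functor.associator _ _ _ ≪≫ Functor.isoWhiskerLeft _
      (Functor.associator _ _ _ ≪≫ Functor.isoWhiskerLeft _ ((Functor.associator _ _ _).symm ≪≫
        Functor.isoWhiskerRight e₁.symm _ ≪≫ Functor.associator _ _ _ ≪≫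
        Functor.isoWhiskerLeft _ (e₂ ≪≫ e₃)))⟩

end Transform

end Groth.Agent.FMX
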