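import Groth.Agent.FMX.Kernel
import Groth.Agent.Lib.AVPair
import Groth.Agent.S0033
import Groth.Agent.S7458
import Groth.Agent.KFlatLib.Scheme.RpushQCoh
import Groth.Agent.KFlatLib.Scheme.AffinePush

/-!
The composite of the integral transforms of a biadditive class and of its transpose.
-/

set_option autoImplicit false
set_option linter.style.haveILetI false
set_option linter.unusedSectionVars false
set_option backward.isDefEq.respectTransparency false
set_option backward.isDefEq.respectTransparency.types false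
set_option maxHeartbeats 1600000

universe u

open CategoryTheory CategoryTheory.Limits MonoidalCategory CartesianMonoidalCategory MonObj AlgebraicGeometry
attribute [local instance] HasDerivedCategory.standard

noncomputable section

namespace Groth.Agent.FMX

open KFlatLib

section DerivedGeneral

variable {V W : Scheme.{u}}

/-- The derived pullback of a module in degree `n` along a flat morphism. -/
theorem nonempty_lpull_single (f : V ⟶ W) [Flat f] [DCoh.HasLpull f] (N : W.Modules) (n : ℤ) :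
    Nonempty ((DCoh.Lpull f).obj
        (DerivedCategory.Q.obj ((HomologicalComplex.single W.Modules (ComplexShape.up ℤ) n).obj N)) ≅
      DerivedCategory.Q.obj ((HomologicalComplex.single V.Modules (ComplexShape.up ℤ) n).obj
        ((Scheme.Modules.pullback f).obj N))) := by
  haveI := preservesHomology_pullback f
  let T := Scheme.Modules.pullback f
  let S := (HomologicalComplex.single W.Modules (ComplexShape.up ℤ) n).obj N
  haveI := (flatCover W).quasiIso_ψ S
  haveI : QuasiIso ((T.mapHomologicalComplex (ComplexShape.up ℤ)).map ((flatCover W).ψ.app S)) := inferInstance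
  haveI : IsIso (DerivedCategory.Q.map ((pullCx f).map ((flatCover W).ψ.app S))) :=
    isIso_Q_map _ inferInstance
  exact ⟨(lpullResIso f).app S ≪≫ asIso (DerivedCategory.Q.map ((pullCx f).map ((flatCover W).ψ.app S))) ≪≫
    DerivedCategory.Q.mapIso ((HomologicalComplex.singleMapHomologicalComplex T (ComplexShape.up ℤ) n).app N)⟩

/-- The derived direct image of a module in degree `n` along an affine morphism. -/
theorem nonempty_rpush_single_of_isAffineHom (f : V ⟶ W) [IsAffineHom f] [DCoh.HasRpush f] {M : V.Modules}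
    (hM : Coh.IsQCoh M) (n : ℤ) :
    Nonempty ((DCoh.Rpush f).obj
        (DerivedCategory.Q.obj ((HomologicalComplex.single V.Modules (ComplexShape.up ℤ) n).obj M)) ≅
      DerivedCategory.Q.obj ((HomologicalComplex.single W.Modules (ComplexShape.up ℤ) n).obj
        ((Scheme.Modules.pushforward f).obj M))) := by
  let S := (HomologicalComplex.single V.Modules (ComplexShape.up ℤ) n).obj M
  haveI := isIso_unit_of_isAffineHom f S fun m => by
    by_cases h : m = n
    · subst h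
      exact isQCoh_of_iso (HomologicalComplex.singleObjXSelf (ComplexShape.up ℤ) m M).symm hM
    · exact KFlatLib.isQCoh_of_isZero (HomologicalComplex.isZero_single_obj_X (ComplexShape.up ℤ) n M m h)
  let α := (DCoh.pushKh f).totalRightDerivedUnit DerivedCategory.Qh
    (HomotopyCategory.quasiIso V.Modules (ComplexShape.up ℤ))
  exact ⟨(DCoh.Rpush f).mapIso ((DerivedCategory.quotientCompQhIso V.Modules).app S).symm ≪≫
    (asIso (α.app ((HomotopyCategory.quotient V.Modules (ComplexShape.up ℤ)).obj S))).symm ≪≫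
    DerivedCategory.Qh.mapIso (((Scheme.Modules.pushforward f).mapHomotopyCategoryFactors
      (ComplexShape.up ℤ)).app S) ≪≫ (DerivedCategory.quotientCompQhIso W.Modules).app _ ≪≫
    DerivedCategory.Q.mapIso ((HomologicalComplex.singleMapHomologicalComplex (Scheme.Modules.pushforward f)
      (ComplexShape.up ℤ) n).app M)⟩

/-- A derived direct image with a single higher direct image. -/
theorem nonempty_rpush_inD_of_isZero (f : V ⟶ W) [DCoh.HasRpush f] [HasInjectiveResolutions V.Modules]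
    (M : V.Modules) (g : ℕ) (hz : ∀ p : ℕ, p ≠ g → IsZero ((Coh.Rpush f p).obj M)) :
    Nonempty ((DCoh.Rpush f).obj (DCoh.inD V M) ≅
      DerivedCategory.Q.obj ((HomologicalComplex.single W.Modules (ComplexShape.up ℤ) (g : ℤ)).obj
        ((Coh.Rpush f g).obj M))) := by
  let A := (DCoh.Rpush f).obj (DCoh.inD V M)
  have hA : ∀ i : ℤ, i ≠ (g : ℤ) → IsZero (DCoh.HD A i) := fun i hi => by
    rcases lt_or_ge i 0 with h | h
    · exact isZero_hd_rpush_of_lt f _ 0 _ h
    · obtain ⟨n, rfl⟩ := Int.eq_ofNat_of_zero_le h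
      exact (hz n (fun e => hi (by rw [e]))).of_iso (nonempty_hd_rpush_single f M n).some
  haveI : A.IsGE (g : ℤ) := (DerivedCategory.isGE_iff _ _).2 fun i hi => hA i (by omega)
  haveI : A.IsLE (g : ℤ) := (DerivedCategory.isLE_iff _ _).2 fun i hi => hA i (by omega)
  obtain ⟨N, ⟨e⟩⟩ := DerivedCategory.exists_iso_singleFunctor_obj_of_isGE_of_isLE A (g : ℤ)
  let eN : N ≅ (Coh.Rpush f g).obj M :=
    ((DerivedCategory.singleFunctorCompHomologyFunctorIso W.Modules (g : ℤ)).app N).symm ≪≫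
      (DerivedCategory.homologyFunctor W.Modules (g : ℤ)).mapIso e.symm ≪≫ (nonempty_hd_rpush_single f M g).some
  exact ⟨e ≪≫ (DerivedCategory.singleFunctor W.Modules (g : ℤ)).mapIso eN ≪≫
    (DerivedCategory.singleFunctorIsoCompQ W.Modules (g : ℤ)).app _⟩

/-- Derived pushforward along the identity. -/
theorem nonempty_rpush_id [DCoh.HasRpush (𝟙 V)] : Nonempty (DCoh.Rpush (𝟙 V) ≅ 𝟭 (DCoh.D V)) := by
  haveI : DCoh.HasLpull (Iso.refl V).hom := hasLpull _
  haveI : DCoh.HasRpush (Iso.refl V).inv := ‹DCoh.HasRpush (𝟙 V)›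
  haveI : DCoh.HasLpull (𝟙 V) := hasLpull _
  obtain ⟨e⟩ := nonempty_lpull_iso_rpush_inv (Iso.refl V)
  obtain ⟨e'⟩ := nonempty_lpull_id (X := V)
  exact ⟨e.symm ≪≫ e'⟩

end DerivedGeneral

section Squares

variable {S : Scheme.{u}} (X Y : Over S)

/-- The square defining the convolution of kernels. -/
theorem isPullback_convolution :
    IsPullback (fst (X ⊗ Y) X) (lift (fst (X ⊗ Y) X ≫ snd X Y) (snd (X ⊗ Y) X)) (snd X Y) (fst Y X) := by
  refine IsPullback.of_isLimit' ⟨(lift_fst _ _).symm⟩ (PullbackCone.IsLimit.mk _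
    (fun s => lift s.fst (s.snd ≫ snd Y X)) (fun s => lift_fst _ _) (fun s => ?_) fun s m h₁ h₂ => ?_)
  · refine CartesianMonoidalCategory.hom_ext _ _ ?_ ?_
    · rw [Category.assoc, lift_fst, ← Category.assoc, lift_fst, s.condition]
    · rw [Category.assoc, lift_snd, lift_snd]
  · refine CartesianMonoidalCategory.hom_ext _ _ (by rw [lift_fst]; exact h₁) ?_
    rw [lift_snd, ← h₂, Category.assoc, lift_snd]

variable [GrpObj X]

/-- The square of the multiplication. -/
theorem isPullback_mul :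
    IsPullback (lift (lift (fst (X ⊗ Y) X ≫ fst X Y) (snd (X ⊗ Y) X) ≫ μ[X]) (fst (X ⊗ Y) X ≫ snd X Y))
      (lift (fst (X ⊗ Y) X ≫ fst X Y) (snd (X ⊗ Y) X)) (fst X Y) μ[X] := by
  refine IsPullback.of_isLimit' ⟨lift_fst _ _⟩ (PullbackCone.IsLimit.mk _
    (fun s => lift (lift (s.snd ≫ fst X X) (s.fst ≫ snd X Y)) (s.snd ≫ snd X X))
    (fun s => ?_) (fun s => ?_) fun s m h₁ h₂ => ?_)
  · refine CartesianMonoidalCategory.hom_ext _ _ ?_ ?_
    · rw [Category.assoc, lift_fst, ← Category.assoc, comp_lift, ← Category.assoc, lift_fst, lift_fst, lift_snd,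
        ← comp_lift, lift_fst_snd, Category.comp_id, s.condition]
    · rw [Category.assoc, lift_snd, ← Category.assoc, lift_fst, lift_snd]
  · refine CartesianMonoidalCategory.hom_ext _ _ ?_ ?_
    · rw [Category.assoc, lift_fst, ← Category.assoc, lift_fst, lift_fst]
    · rw [Category.assoc, lift_snd, lift_snd]
  · refine CartesianMonoidalCategory.hom_ext _ _ (CartesianMonoidalCategory.hom_ext _ _ ?_ ?_) ?_
    · rw [lift_fst, lift_fst, ← h₂]
      simp
    · rw [lift_fst, lift_snd, ← h₁]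
      simp
    · rw [lift_snd, ← h₂]
      simp

/-- The antidiagonal is the kernel of the multiplication. -/
theorem isPullback_antidiagonal :
    IsPullback (toUnit X) (lift (𝟙 X)⁻¹ (𝟙 X)) η[X] μ[X] := by
  have hw : toUnit X ≫ η[X] = lift (𝟙 X)⁻¹ (𝟙 X) ≫ μ[X] := by
    rw [MonObj.mul_eq_mul, MonObj.comp_mul, lift_fst, lift_snd, inv_mul_cancel]
    rfl
  refine IsPullback.of_isLimit' ⟨hw⟩ (PullbackCone.IsLimit.mk _ (fun s => s.snd ≫ snd X X)
    (fun s => toUnit_unique _ _) (fun s => ?_) fun s m h₁ h₂ => by rw [← h₂]; simp)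
  have h : s.snd ≫ fst X X = (s.snd ≫ snd X X)⁻¹ := by
    refine eq_inv_of_mul_eq_one_left ?_
    rw [← MonObj.comp_mul, ← MonObj.mul_eq_mul, ← s.condition]
    rw [toUnit_unique s.fst (toUnit _)]
    rfl
  refine CartesianMonoidalCategory.hom_ext _ _ ?_ ?_
  · rw [Category.assoc, lift_fst, h, GrpObj.comp_inv, Category.comp_id]
  · rw [Category.assoc, lift_snd, Category.comp_id]

end Squares

open Groth.Agent.AVPair
open scoped Groth.Agent.H23.PicMul

variable {k : Type u} [Field k] {X Y : Over (Spec (CommRingCat.of k))} [GrpObj X] [IsProper X.hom]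
  [GeometricallyIntegral X.hom] [GrpObj Y] [IsProper Y.hom] [GeometricallyIntegral Y.hom]
  {P : (X ⊗ Y).left.Modules} (hP : PicF.IsInvertible P)
  (h1 : pl (lift (1 : Y ⟶ X) (𝟙 Y)) (PicF.cl P) = 1) (h2 : pl (lift (𝟙 X) (1 : X ⟶ Y)) (PicF.cl P) = 1)
  {P' : (Y ⊗ X).left.Modules} (hP' : Nonempty (P' ≅ (Scheme.Modules.pullback (lift (snd Y X) (fst Y X)).left).obj P))
  {g : ℕ} [HasInjectiveResolutions (X ⊗ Y).left.Modules]
  (hz : ∀ p : ℕ, p ≠ g → IsZero ((Coh.Rpush (fst X Y).left p).obj P))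
  (hg : Nonempty ((Coh.Rpush (fst X Y).left g).obj P ≅
    (Coh.push η[X].left).obj (Coh.structureModule (Spec (CommRingCat.of k)))))
include hP h1 h2 hP' hz hg

/-- The transform by a biadditive class followed by the transform by its transpose. -/
theorem nonempty_transform_comp [DCoh.HasLpull (fst X Y).left] [DCoh.HasLTensorMod P]
    [DCoh.HasRpush (snd X Y).left] [DCoh.HasLpull (fst Y X).left] [DCoh.HasLTensorMod P']
    [DCoh.HasRpush (snd Y X).left] [DCoh.HasLpull ((𝟙 X)⁻¹).left] :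
    Nonempty (ObjectProperty.ι (DCoh.IsQCohD (X := X.left)) ⋙
        (DCoh.Lpull (fst X Y).left ⋙ DCoh.LTensorMod P ⋙ DCoh.Rpush (snd X Y).left) ⋙
        (DCoh.Lpull (fst Y X).left ⋙ DCoh.LTensorMod P' ⋙ DCoh.Rpush (snd Y X).left) ≅
      ObjectProperty.ι (DCoh.IsQCohD (X := X.left)) ⋙ DCoh.Lpull ((𝟙 X)⁻¹).left ⋙
        shiftFunctor (DCoh.D X.left) (-(g : ℤ))) := by
  let Z := (X ⊗ Y) ⊗ X
  let π₁₂ : Z ⟶ X ⊗ Y := fst (X ⊗ Y) X
  let π₂₃ : Z ⟶ Y ⊗ X := lift (fst (X ⊗ Y) X ≫ snd X Y) (snd (X ⊗ Y) X)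
  let π₁₃ : Z ⟶ X ⊗ X := lift (fst (X ⊗ Y) X ≫ fst X Y) (snd (X ⊗ Y) X)
  let θ : Z ⟶ X ⊗ Y := lift (π₁₃ ≫ μ[X]) (fst (X ⊗ Y) X ≫ snd X Y)
  let δ : X ⟶ X ⊗ X := lift (𝟙 X)⁻¹ (𝟙 X)
  haveI : IsProper (snd X Y).left := inferInstanceAs (IsProper (pullback.snd X.hom Y.hom))
  haveI : IsProper (fst X Y).left := inferInstanceAs (IsProper (pullback.fst X.hom Y.hom))
  haveI : IsProper (fst X X).left := inferInstanceAs (IsProper (pullback.fst X.hom X.hom))
  haveI : Flat (fst X Y).left := inferInstanceAs (Flat (pullback.fst X.hom Y.hom))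
  haveI : Flat (snd X Y).left := inferInstanceAs (Flat (pullback.snd X.hom Y.hom))
  haveI : Flat μ[X].left := (Groth.Agent.S7458.result _ X).2 inferInstance
  have H₁ : IsPullback π₁₂.left π₂₃.left (snd X Y).left (fst Y X).left :=
    (isPullback_convolution X Y).map (Over.forget _)
  have H₂ : IsPullback θ.left π₁₃.left (fst X Y).left μ[X].left :=
    (isPullback_mul X Y).map (Over.forget _)
  have H₃ : IsPullback (toUnit X).left δ.left η[X].left μ[X].left :=
    (isPullback_antidiagonal X).map (Over.forget _)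
  haveI : Flat θ.left := MorphismProperty.of_isPullback H₂.flip inferInstance
  haveI : IsProper π₁₃.left := MorphismProperty.of_isPullback H₂ inferInstance
  haveI : IsClosedImmersion η[X].left :=
    isClosedImmersion_of_comp_eq_id (Y := Spec (CommRingCat.of k)) X.hom η[X].left (Over.w η[X])
  haveI : IsClosedImmersion δ.left := MorphismProperty.of_isPullback H₃ inferInstance
  let M := (Scheme.Modules.pullback θ.left).obj P
  let A₁₂ := (Scheme.Modules.pullback π₁₂.left).obj P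
  let A₂₃ := (Scheme.Modules.pullback π₂₃.left).obj P'
  have hP'i : PicF.IsInvertible P' :=
    H23.PicMul.isInvertible_of_iso hP'.some.symm (PicClLib.isInvertible_pullback _ hP)
  have hA₁₂ : PicF.IsInvertible A₁₂ := PicClLib.isInvertible_pullback _ hP
  have hM : PicF.IsInvertible M := PicClLib.isInvertible_pullback _ hP
  have hcl : PicF.cl (CohB1.tensorMod A₁₂ A₂₃) = PicF.cl M := by
    have hc : PicF.IsInvertibleCl (PicF.cl P) := ⟨P, rfl, hP⟩
    rw [H23.PicMul.cl_tensor]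
    show pl π₁₂ (PicF.cl P) * pl π₂₃ (PicF.cl P') = pl θ (PicF.cl P)
    rw [show PicF.cl P' = pl (lift (snd Y X) (fst Y X)) (PicF.cl P) from H23.PicMul.cl_eq_iff.2 hP', pl_pl,
      comp_lift, lift_snd, lift_fst,
      show θ = lift (fst (X ⊗ Y) X ≫ fst X Y * snd (X ⊗ Y) X) (fst (X ⊗ Y) X ≫ snd X Y) by
        show lift _ _ = _
        rw [MonObj.mul_eq_mul, MonObj.comp_mul, lift_fst, lift_snd],
      add_left hc h1 h2]
    congr 2
    refine congrArg pl ?_
    show fst (X ⊗ Y) X = lift (fst (X ⊗ Y) X ≫ fst X Y) (fst (X ⊗ Y) X ≫ snd X Y)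
    rw [← comp_lift, lift_fst_snd, Category.comp_id]
  haveI := hasLTensorMod A₁₂
  haveI := hasLTensorMod A₂₃
  haveI := hasLTensorMod M
  haveI := hasLTensorMod (CohB1.tensorMod A₁₂ A₂₃)
  haveI := hasLpull (π₁₂ ≫ fst X Y).left
  haveI := hasLpull π₁₃.left
  haveI := hasLpull θ.left
  haveI := hasLpull μ[X].left
  haveI := hasLpull (fst X X).left
  haveI := hasLpull δ.left
  haveI := hasLpull (δ.left ≫ (fst X X).left)
  haveI := hasLpull (π₁₃.left ≫ (fst X X).left)
  haveI := hasRpush_scheme π₂₃.left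
  haveI := hasRpush_scheme π₁₃.left
  haveI := hasRpush_scheme (fst X Y).left
  haveI := hasRpush_scheme δ.left
  haveI := hasRpush_scheme (snd X X).left
  haveI := hasRpush_scheme (π₂₃.left ≫ (snd Y X).left)
  haveI := hasRpush_scheme (π₁₃.left ≫ (snd X X).left)
  haveI := hasRpush_scheme (δ.left ≫ (snd X X).left)
  haveI := hasRpush_scheme (𝟙 X.left)
  haveI : HasInjectiveResolutions X.left.Modules := hasInjectiveResolutions_modules
  haveI : HasInjectiveResolutions (Spec (CommRingCat.of k)).Modules := hasInjectiveResolutions_modules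
  let U₀ := ObjectProperty.ι (DCoh.IsQCohD (X := X.left))
  -- first step: flat base change
  obtain ⟨e₁⟩ := nonempty_transform_lpull (fst X Y).left (snd X Y).left (P := P)
    (p' := (π₁₂ ≫ fst X Y).left) H₁ (Over.comp_left _ _ _ _ _).symm hP (Or.inl inferInstance)
  -- second step: projection formula and composition
  obtain ⟨e₂⟩ := nonempty_projection_invertible π₂₃.left hP'i
  obtain ⟨e₃⟩ := nonempty_rpush_comp π₂₃.left (snd Y X).left
  obtain ⟨e₄⟩ := nonempty_ltm_comp (N := A₂₃) (flat_of_isInvertible hA₁₂)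
  obtain ⟨e₅⟩ := nonempty_ltm_congr (H23.PicMul.cl_eq_iff.1 hcl).some
  -- third step: factorization through `X ⊗ X`
  have hpf : π₁₃.left ≫ (fst X X).left = (π₁₂ ≫ fst X Y).left := by rw [← Over.comp_left, lift_fst]
  have hps : π₁₃.left ≫ (snd X X).left = π₂₃.left ≫ (snd Y X).left := by
    rw [← Over.comp_left, ← Over.comp_left, lift_snd, lift_snd]
  obtain ⟨a₁⟩ := nonempty_lpull_comp π₁₃.left (fst X X).left
  obtain ⟨a₂⟩ := nonempty_lpull_congr hpf
  obtain ⟨b₁⟩ := nonempty_rpush_comp π₁₃.left (snd X X).left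
  obtain ⟨b₂⟩ := nonempty_rpush_congr hps
  -- the kernel
  have hkey : Nonempty ((DCoh.Rpush π₁₃.left).obj (DCoh.inD Z.left M) ≅
      (DCoh.Rpush δ.left).obj (DerivedCategory.Q.obj ((HomologicalComplex.single X.left.Modules
        (ComplexShape.up ℤ) (g : ℤ)).obj (Coh.structureModule X.left)))) := by
    obtain ⟨c₁⟩ := nonempty_lpull_inD θ.left P
    obtain ⟨c₂⟩ := PerfD40.BC.BCAt.nonempty_iso H₂.w
      (PerfD40.BC.bcAt_of_flat H₂ (isQCohD_inD (ProjUPX.isQCoh_of_isInvertible hP)))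
    obtain ⟨c₃⟩ := nonempty_rpush_inD_of_isZero (fst X Y).left P g hz
    obtain ⟨c₄⟩ := nonempty_lpull_single μ[X].left ((Coh.Rpush (fst X Y).left g).obj P) (g : ℤ)
    obtain ⟨c₅⟩ := nonempty_rpush_single_of_isAffineHom δ.left
      (QCoh.isQCoh_structureModule (X := X.left)) (g : ℤ)
    haveI : Coh.IsQCoh (Coh.structureModule (Spec (CommRingCat.of k))) := QCoh.isQCoh_structureModule
    obtain ⟨c₆⟩ := Groth.Agent.S0033.result η[X].left μ[X].left (toUnit X).left δ.left H₃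
      (Coh.structureModule (Spec (CommRingCat.of k))) 0
    obtain ⟨c₇⟩ := PicClLib.nonempty_pullback_structureModule (toUnit X).left
    haveI := SpObjSS.enoughInjectives_of_hasInjectiveResolutions (C := (Spec (CommRingCat.of k)).Modules)
    haveI := SpObjSS.enoughInjectives_of_hasInjectiveResolutions (C := X.left.Modules)
    haveI := QCoh.preservesFiniteLimits_push η[X].left
    haveI := QCoh.preservesFiniteLimits_push δ.left
    let cη := (Scheme.Modules.pushforward η[X].left).rightDerivedZeroIsoSelf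
    let cδ := (Scheme.Modules.pushforward δ.left).rightDerivedZeroIsoSelf
    let j : (Scheme.Modules.pullback μ[X].left).obj ((Coh.Rpush (fst X Y).left g).obj P) ≅
        (Scheme.Modules.pushforward δ.left).obj (Coh.structureModule X.left) :=
      (Scheme.Modules.pullback μ[X].left).mapIso (hg.some ≪≫ (cη.app _).symm) ≪≫ c₆ ≪≫ cδ.app _ ≪≫
        (Scheme.Modules.pushforward δ.left).mapIso c₇
    exact ⟨(DCoh.Rpush π₁₃.left).mapIso c₁.symm ≪≫ c₂.symm ≪≫ (DCoh.Lpull μ[X].left).mapIso c₃ ≪≫ c₄ ≪≫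
      DerivedCategory.Q.mapIso ((HomologicalComplex.single _ (ComplexShape.up ℤ) (g : ℤ)).mapIso j) ≪≫ c₅.symm⟩
  obtain ⟨e₆⟩ := nonempty_kernel_comparison π₁₃.left δ.left (ProjUPX.isQCoh_of_isInvertible hM) (g : ℤ) hkey
  let G := ObjectProperty.lift (DCoh.IsQCohD (X := (X ⊗ X).left)) (U₀ ⋙ DCoh.Lpull (fst X X).left)
    fun c => isQCohD_lpull (fst X X).left c.2
  let eG : G ⋙ ObjectProperty.ι _ ≅ U₀ ⋙ DCoh.Lpull (fst X X).left := Iso.refl _
  have hdf : δ.left ≫ (fst X X).left = ((𝟙 X)⁻¹).left := by rw [← Over.comp_left, lift_fst]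
  have hds : δ.left ≫ (snd X X).left = 𝟙 X.left := by rw [← Over.comp_left, lift_snd]; rfl
  obtain ⟨a₃⟩ := nonempty_lpull_comp δ.left (fst X X).left
  obtain ⟨a₄⟩ := nonempty_lpull_congr hdf
  obtain ⟨b₃⟩ := nonempty_rpush_comp δ.left (snd X X).left
  obtain ⟨b₄⟩ := nonempty_rpush_congr hds
  obtain ⟨b₅⟩ := nonempty_rpush_id (V := X.left)
  let Φ := DCoh.Lpull (fst X Y).left ⋙ DCoh.LTensorMod P ⋙ DCoh.Rpush (snd X Y).left
  let R₂ := DCoh.Rpush π₂₃.left
  let K₀ := DCoh.LTensorMod M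
  let step1 : U₀ ⋙ Φ ⋙ (DCoh.Lpull (fst Y X).left ⋙ DCoh.LTensorMod P' ⋙ DCoh.Rpush (snd Y X).left) ≅
      (U₀ ⋙ DCoh.Lpull (π₁₂ ≫ fst X Y).left ⋙ DCoh.LTensorMod A₁₂ ⋙ R₂) ⋙
        DCoh.LTensorMod P' ⋙ DCoh.Rpush (snd Y X).left :=
    Functor.isoWhiskerLeft _ (Functor.associator _ _ _).symm ≪≫ (Functor.associator _ _ _).symm ≪≫
      Functor.isoWhiskerRight e₁ _
  let tail : (DCoh.LTensorMod A₁₂ ⋙ R₂) ⋙ DCoh.LTensorMod P' ⋙ DCoh.Rpush (snd Y X).left ≅
      K₀ ⋙ DCoh.Rpush (π₂₃.left ≫ (snd Y X).left) :=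
    Functor.associator _ _ _ ≪≫ Functor.isoWhiskerLeft _ ((Functor.associator _ _ _).symm ≪≫
        Functor.isoWhiskerRight e₂.symm _ ≪≫ Functor.associator _ _ _ ≪≫ Functor.isoWhiskerLeft _ e₃) ≪≫
      (Functor.associator _ _ _).symm ≪≫ Functor.isoWhiskerRight (e₄ ≪≫ e₅) _
  let step2 : U₀ ⋙ Φ ⋙ (DCoh.Lpull (fst Y X).left ⋙ DCoh.LTensorMod P' ⋙ DCoh.Rpush (snd Y X).left) ≅
      U₀ ⋙ DCoh.Lpull (π₁₂ ≫ fst X Y).left ⋙ K₀ ⋙ DCoh.Rpush (π₂₃.left ≫ (snd Y X).left) :=
    step1 ≪≫ Functor.associator _ _ _ ≪≫ Functor.isoWhiskerLeft _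
      (Functor.associator _ _ _ ≪≫ Functor.isoWhiskerLeft _ tail)
  let step3 : U₀ ⋙ DCoh.Lpull (π₁₂ ≫ fst X Y).left ⋙ K₀ ⋙ DCoh.Rpush (π₂₃.left ≫ (snd Y X).left) ≅
      (G ⋙ ObjectProperty.ι _ ⋙ DCoh.Lpull π₁₃.left ⋙ K₀ ⋙ DCoh.Rpush π₁₃.left) ⋙ DCoh.Rpush (snd X X).left :=
    Functor.isoWhiskerLeft _ (Functor.isoWhiskerRight (a₁ ≪≫ a₂).symm _ ≪≫
        Functor.isoWhiskerLeft _ (Functor.isoWhiskerLeft _ (b₁ ≪≫ b₂).symm) ≪≫ Functor.associator _ _ _) ≪≫
      (Functor.associator _ _ _).symm ≪≫ Functor.isoWhiskerRight eG.symm _ ≪≫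
      Functor.associator _ _ _ ≪≫ Functor.isoWhiskerLeft _ (Functor.isoWhiskerLeft _
        (Functor.isoWhiskerLeft _ (Functor.associator _ _ _).symm ≪≫ (Functor.associator _ _ _).symm) ≪≫
        (Functor.associator _ _ _).symm) ≪≫ (Functor.associator _ _ _).symm
  let step4 : (G ⋙ ObjectProperty.ι _ ⋙ DCoh.Lpull π₁₃.left ⋙ K₀ ⋙ DCoh.Rpush π₁₃.left) ⋙
      DCoh.Rpush (snd X X).left ≅
      (G ⋙ ObjectProperty.ι _ ⋙ DCoh.Lpull δ.left ⋙ shiftFunctor (DCoh.D X.left) (-(g : ℤ)) ⋙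
        DCoh.Rpush δ.left) ⋙ DCoh.Rpush (snd X X).left :=
    Functor.isoWhiskerRight (Functor.isoWhiskerLeft G e₆) _
  let step5 : (G ⋙ ObjectProperty.ι _ ⋙ DCoh.Lpull δ.left ⋙ shiftFunctor (DCoh.D X.left) (-(g : ℤ)) ⋙
      DCoh.Rpush δ.left) ⋙ DCoh.Rpush (snd X X).left ≅
      U₀ ⋙ DCoh.Lpull ((𝟙 X)⁻¹).left ⋙ shiftFunctor (DCoh.D X.left) (-(g : ℤ)) :=
    Functor.associator _ _ _ ≪≫ Functor.isoWhiskerLeft G (Functor.associator _ _ _ ≪≫
      Functor.isoWhiskerLeft _ (Functor.associator _ _ _ ≪≫ Functor.isoWhiskerLeft _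
        (Functor.associator _ _ _ ≪≫ Functor.isoWhiskerLeft _ (b₃ ≪≫ b₄ ≪≫ b₅) ≪≫ Functor.rightUnitor _))) ≪≫
    (Functor.associator _ _ _).symm ≪≫ Functor.isoWhiskerRight eG _ ≪≫ Functor.associator _ _ _ ≪≫
    Functor.isoWhiskerLeft _ ((Functor.associator _ _ _).symm ≪≫ Functor.isoWhiskerRight (a₃ ≪≫ a₄) _)
  exact ⟨step2 ≪≫ step3 ≪≫ step4 ≪≫ step5⟩

end Groth.Agent.FMX
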