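import Groth.Agent.KFlatLib.Scheme.Adjoint
import Groth.Agent.KFlatLib.Scheme.TensorAssoc
import Groth.Agent.KFlatLib.Scheme.PullTensorCx
import Groth.Agent.KFlatLib.Scheme.Amplitude
import Groth.Agent.KFlatLib.Scheme.LocalDevissage
import Groth.Agent.KFlatLib.Scheme.ProjLocFree
import Groth.Agent.KFlatLib.Scheme.Flatness
import Groth.Agent.KFlatLib.SingleIso
import Groth.Agent.H23.PullPush
import Groth.Agent.H23.PicMul

/-!
Derived twists by invertible modules, derived pullbacks and pushforwards: formal compatibilities.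
-/

set_option linter.style.haveILetI false
set_option backward.isDefEq.respectTransparency false
set_option autoImplicit false

universe u

open CategoryTheory CategoryTheory.Limits AlgebraicGeometry

attribute [local instance] HasDerivedCategory.standard

namespace Groth.Agent.FMX

open KFlatLib

variable {X Y : Scheme.{u}}

/-- The derived twist on a resolution. -/
noncomputable def ltmResIso (F : X.Modules) [DCoh.HasLTensorMod F] :
    DerivedCategory.Q ⋙ DCoh.LTensorMod F ≅ kRes X ⋙ tensorModCx F ⋙ DerivedCategory.Q :=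
  haveI : ∀ K, IsIso ((Functor.whiskerLeft (kRes X) (ltensorModComparison F)).app K) :=
    fun K => isIso_ltensorModComparison F (isKFlat_kRes K)
  haveI := NatIso.isIso_of_isIso_app (Functor.whiskerLeft (kRes X) (ltensorModComparison F))
  Functor.isoWhiskerRight (resQIso X).symm _ ≪≫ Functor.associator _ _ _ ≪≫
    asIso (Functor.whiskerLeft (kRes X) (ltensorModComparison F))

/-- Twisting a K-flat complex by a flat module keeps it K-flat. -/
theorem isKFlat_tensorModCx {F : X.Modules} (hF : FlatMod.IsFlat F) {K : CochainComplex X.Modules ℤ}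
    (hK : DCoh.IsKFlat K) : DCoh.IsKFlat ((tensorModCx F).obj K) := by
  have h : KFlat DCoh.tensorBi ((DCoh.tensorCx.obj K).obj
      ((HomologicalComplex.single X.Modules (ComplexShape.up ℤ) 0).obj F)) :=
    kFlat_iff_isKFlat.2 (isKFlat_tensorCx hK (isKFlat_of_isStrictlyLE _ 0 (isFlat_single 0 hF)))
  let e : (DCoh.tensorCx.obj K).obj ((HomologicalComplex.single X.Modules (ComplexShape.up ℤ) 0).obj F) ≅
      ((DCoh.tensorBi.flip.obj F).mapHomologicalComplex (ComplexShape.up ℤ)).obj K :=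
    (singleIso DCoh.tensorBi F).app K
  exact kFlat_iff_isKFlat.1 (h.of_iso e)

/-- Two descriptions of functors on complexes give isomorphic derived functors. -/
theorem nonempty_iso_of_res {F G : DCoh.D X ⥤ DCoh.D Y}
    {H : CochainComplex X.Modules ℤ ⥤ DCoh.D Y}
    (e₁ : DerivedCategory.Q ⋙ F ≅ H) (e₂ : DerivedCategory.Q ⋙ G ≅ H) : Nonempty (F ≅ G) :=
  ⟨Localization.liftNatIso DerivedCategory.Q (qisX X) (DerivedCategory.Q ⋙ F) (DerivedCategory.Q ⋙ G)
    _ _ (e₁ ≪≫ e₂.symm)⟩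

/-- The derived twist only depends on the class of the module. -/
theorem nonempty_ltm_congr {M M' : X.Modules} [DCoh.HasLTensorMod M] [DCoh.HasLTensorMod M'] (e : M ≅ M') :
    Nonempty (DCoh.LTensorMod M ≅ DCoh.LTensorMod M') := by
  let t : DCoh.tensorRightMod M ≅ DCoh.tensorRightMod M' := (DCoh.tensorBi (X := X)).flip.mapIso e
  exact nonempty_iso_of_res (ltmResIso M ≪≫ Functor.isoWhiskerLeft (kRes X)
    (Functor.isoWhiskerRight (NatIso.mapHomologicalComplex t (ComplexShape.up ℤ)) DerivedCategory.Q))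
    (ltmResIso M')

/-- Derived twists compose. -/
theorem nonempty_ltm_comp {M N : X.Modules} (hM : FlatMod.IsFlat M) [DCoh.HasLTensorMod M]
    [DCoh.HasLTensorMod N] [DCoh.HasLTensorMod (CohB1.tensorMod M N)] :
    Nonempty (DCoh.LTensorMod M ⋙ DCoh.LTensorMod N ≅ DCoh.LTensorMod (CohB1.tensorMod M N)) := by
  haveI : ∀ K, IsIso ((Functor.whiskerLeft (kRes X ⋙ tensorModCx M) (ltensorModComparison N)).app K) :=
    fun K => isIso_ltensorModComparison N (isKFlat_tensorModCx hM (isKFlat_kRes K))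
  haveI := NatIso.isIso_of_isIso_app
    (Functor.whiskerLeft (kRes X ⋙ tensorModCx M) (ltensorModComparison N))
  let t : DCoh.tensorRightMod M ⋙ DCoh.tensorRightMod N ≅ DCoh.tensorRightMod (CohB1.tensorMod M N) :=
    NatIso.ofComponents (fun K => (((tensorAssocSch (X := X)).app K).app M).app N) fun {K K'} φ =>
      congrArg (fun τ => NatTrans.app τ N) (congrArg (fun τ => NatTrans.app τ M)
        ((tensorAssocSch (X := X)).hom.naturality φ))
  refine nonempty_iso_of_res ?_ (ltmResIso _)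
  exact (Functor.associator _ _ _).symm ≪≫ Functor.isoWhiskerRight (ltmResIso M) _ ≪≫
    Functor.isoWhiskerRight (Functor.associator _ _ _).symm _ ≪≫ Functor.associator _ _ _ ≪≫
    asIso (Functor.whiskerLeft (kRes X ⋙ tensorModCx M) (ltensorModComparison N)) ≪≫
    Functor.associator _ _ _ ≪≫
    Functor.isoWhiskerLeft _ ((Functor.associator _ _ _).symm ≪≫
      Functor.isoWhiskerRight (Functor.mapHomologicalComplexCompIso t (ComplexShape.up ℤ)) _)

/-- The derived twist by the structure module. -/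
theorem nonempty_ltm_structure [DCoh.HasLTensorMod (Coh.structureModule X)] :
    Nonempty (DCoh.LTensorMod (Coh.structureModule X) ≅ 𝟭 (DCoh.D X)) :=
  nonempty_iso_of_res (ltmResIso _ ≪≫ Functor.isoWhiskerLeft (kRes X)
      (Functor.isoWhiskerRight (NatIso.mapHomologicalComplex (tensorStructureIso X) (ComplexShape.up ℤ) ≪≫
        Functor.mapHomologicalComplexIdIso X.Modules (ComplexShape.up ℤ)) _ ≪≫ Functor.leftUnitor _) ≪≫
      resQIso X)
    (Functor.rightUnitor _)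

/-- Derived pullback along the identity. -/
theorem nonempty_lpull_id [DCoh.HasLpull (𝟙 X)] : Nonempty (DCoh.Lpull (𝟙 X) ≅ 𝟭 (DCoh.D X)) :=
  nonempty_iso_of_res (lpullResIso _ ≪≫ Functor.isoWhiskerLeft (kRes X)
      (Functor.isoWhiskerRight (NatIso.mapHomologicalComplex (Scheme.Modules.pullbackId X) (ComplexShape.up ℤ) ≪≫
        Functor.mapHomologicalComplexIdIso X.Modules (ComplexShape.up ℤ)) _ ≪≫ Functor.leftUnitor _) ≪≫
      resQIso X)
    (Functor.rightUnitor _)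

/-- The derived pullback only depends on the morphism. -/
theorem nonempty_lpull_congr {f g : X ⟶ Y} [DCoh.HasLpull f] [DCoh.HasLpull g] (h : f = g) :
    Nonempty (DCoh.Lpull f ≅ DCoh.Lpull g) := by
  subst h; exact ⟨Iso.refl _⟩

/-- The derived pushforward only depends on the morphism. -/
theorem nonempty_rpush_congr {f g : X ⟶ Y} [DCoh.HasRpush f] [DCoh.HasRpush g] (h : f = g) :
    Nonempty (DCoh.Rpush f ≅ DCoh.Rpush g) := by
  subst h; exact ⟨Iso.refl _⟩

/-- Derived pullback commutes with derived twists by flat modules. -/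
theorem nonempty_ltm_lpull (f : X ⟶ Y) [DCoh.HasLpull f] {M : Y.Modules} (hM : FlatMod.IsFlat M)
    [DCoh.HasLTensorMod M] [DCoh.HasLTensorMod ((Scheme.Modules.pullback f).obj M)] :
    Nonempty (DCoh.LTensorMod M ⋙ DCoh.Lpull f ≅
      DCoh.Lpull f ⋙ DCoh.LTensorMod ((Scheme.Modules.pullback f).obj M)) := by
  let f₀ := (Scheme.Modules.pullback f).obj M
  haveI : ∀ K, IsIso ((Functor.whiskerLeft (kRes Y ⋙ tensorModCx M) (lpullComparison f)).app K) :=
    fun K => isIso_lpullComparison f (isKFlat_tensorModCx hM (isKFlat_kRes K))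
  haveI := NatIso.isIso_of_isIso_app (Functor.whiskerLeft (kRes Y ⋙ tensorModCx M) (lpullComparison f))
  haveI : ∀ K, IsIso ((Functor.whiskerLeft (kRes Y ⋙ pullCx f) (ltensorModComparison f₀)).app K) :=
    fun K => isIso_ltensorModComparison f₀ (isKFlat_pullback f (isKFlat_kRes K))
  haveI := NatIso.isIso_of_isIso_app (Functor.whiskerLeft (kRes Y ⋙ pullCx f) (ltensorModComparison f₀))
  let t : DCoh.tensorRightMod M ⋙ Scheme.Modules.pullback f ≅
      Scheme.Modules.pullback f ⋙ DCoh.tensorRightMod f₀ :=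
    NatIso.ofComponents (fun N => ((pullTensorBiIso f).app N).app M) fun {N N'} φ =>
      congrArg (fun τ => NatTrans.app τ M) ((pullTensorBiIso f).hom.naturality φ)
  let c₁ : tensorModCx M ⋙ pullCx f ≅ pullCx f ⋙ tensorModCx f₀ :=
    Functor.mapHomologicalComplexCompIso t (ComplexShape.up ℤ) ≪≫
      (Functor.mapHomologicalComplexCompIso (Iso.refl _) (ComplexShape.up ℤ)).symm
  refine nonempty_iso_of_res ?_ ((Functor.associator _ _ _).symm ≪≫
    Functor.isoWhiskerRight (lpullResIso f) _ ≪≫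
    Functor.isoWhiskerRight (Functor.associator _ _ _).symm _ ≪≫ Functor.associator _ _ _ ≪≫
    asIso (Functor.whiskerLeft (kRes Y ⋙ pullCx f) (ltensorModComparison f₀)))
  exact (Functor.associator _ _ _).symm ≪≫ Functor.isoWhiskerRight (ltmResIso M) _ ≪≫
    Functor.isoWhiskerRight (Functor.associator _ _ _).symm _ ≪≫ Functor.associator _ _ _ ≪≫
    asIso (Functor.whiskerLeft (kRes Y ⋙ tensorModCx M) (lpullComparison f)) ≪≫
    Functor.associator _ _ _ ≪≫
    Functor.isoWhiskerLeft _ ((Functor.associator _ _ _).symm ≪≫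
      Functor.isoWhiskerRight c₁ _) ≪≫ (Functor.associator _ _ _).symm

section Equiv

theorem flat_of_isInvertible {M : X.Modules} (h : PicF.IsInvertible M) : FlatMod.IsFlat M :=
  isFlat_of_isFinLocFree (H23.PullPush.isFinLocFree_of_isInvertible h)

/-- Twists by inverse invertible modules are inverse. -/
theorem nonempty_ltm_inv {N N' : X.Modules} (hN : PicF.IsInvertible N)
    (h : Nonempty (CohB1.tensorMod N N' ≅ Coh.structureModule X))
    [DCoh.HasLTensorMod N] [DCoh.HasLTensorMod N'] :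
    Nonempty (DCoh.LTensorMod N ⋙ DCoh.LTensorMod N' ≅ 𝟭 (DCoh.D X)) := by
  haveI := hasLTensorMod (CohB1.tensorMod N N')
  haveI := hasLTensorMod (Coh.structureModule X)
  obtain ⟨e⟩ := nonempty_ltm_comp (N := N') (flat_of_isInvertible hN)
  obtain ⟨e'⟩ := nonempty_ltm_congr h.some
  obtain ⟨e''⟩ := nonempty_ltm_structure (X := X)
  exact ⟨e ≪≫ e' ≪≫ e''⟩

/-- Derived twists by inverse invertible modules are adjoint. -/
theorem nonempty_ltm_adj {N N' : X.Modules} (hN : PicF.IsInvertible N) (hN' : PicF.IsInvertible N')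
    (h : Nonempty (CohB1.tensorMod N N' ≅ Coh.structureModule X))
    [DCoh.HasLTensorMod N] [DCoh.HasLTensorMod N'] :
    Nonempty (DCoh.LTensorMod N ⊣ DCoh.LTensorMod N') := by
  obtain ⟨u⟩ := nonempty_ltm_inv hN h
  obtain ⟨c⟩ := nonempty_ltm_inv hN' ⟨(H23.PicMul.comm N' N).some ≪≫ h.some⟩
  exact ⟨(CategoryTheory.Equivalence.mk (DCoh.LTensorMod N) (DCoh.LTensorMod N') u.symm c).toAdjunction⟩

variable (σ : X ≅ Y)

/-- Derived pullback along an isomorphism is inverse to pullback along its inverse. -/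
theorem nonempty_lpull_inv [DCoh.HasLpull σ.hom] [DCoh.HasLpull σ.inv] :
    Nonempty (DCoh.Lpull σ.inv ⋙ DCoh.Lpull σ.hom ≅ 𝟭 (DCoh.D X)) := by
  haveI := hasLpull (σ.hom ≫ σ.inv)
  haveI := hasLpull (𝟙 X)
  obtain ⟨e⟩ := nonempty_lpull_comp σ.hom σ.inv
  obtain ⟨e'⟩ := nonempty_lpull_congr σ.hom_inv_id
  obtain ⟨e''⟩ := nonempty_lpull_id (X := X)
  exact ⟨e ≪≫ e' ≪≫ e''⟩

/-- Derived pullback along an isomorphism is derived pushforward along its inverse. -/
theorem nonempty_lpull_iso_rpush_inv [DCoh.HasLpull σ.hom] [DCoh.HasRpush σ.inv] :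
    Nonempty (DCoh.Lpull σ.hom ≅ DCoh.Rpush σ.inv) := by
  haveI := hasLpull σ.inv
  haveI : DCoh.HasLpull σ.symm.hom := hasLpull _
  haveI : DCoh.HasLpull σ.symm.inv := hasLpull _
  obtain ⟨u⟩ := nonempty_lpull_inv σ
  obtain ⟨c⟩ := nonempty_lpull_inv σ.symm
  obtain ⟨a⟩ := nonempty_lpull_rpush_adj σ.inv
  let E := CategoryTheory.Equivalence.mk (DCoh.Lpull σ.inv) (DCoh.Lpull σ.hom) u.symm c
  exact ⟨E.toAdjunction.rightAdjointUniq a⟩

end Equiv

section BaseChange

variable {S T : Scheme.{u}} (f : X ⟶ S) (f' : Y ⟶ T)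

/-- Base change of derived pushforward along isomorphisms. -/
theorem nonempty_baseChange_iso (σ : Y ≅ X) (τ : T ≅ S) (w : σ.hom ≫ f = f' ≫ τ.hom) [DCoh.HasRpush f]
    [DCoh.HasRpush f'] [DCoh.HasLpull σ.hom] [DCoh.HasLpull τ.hom] :
    Nonempty (DCoh.Rpush f ⋙ DCoh.Lpull τ.hom ≅ DCoh.Lpull σ.hom ⋙ DCoh.Rpush f') := by
  haveI := hasRpush_scheme τ.inv
  haveI := hasRpush_scheme σ.inv
  haveI := hasRpush_scheme (f ≫ τ.inv)
  haveI := hasRpush_scheme (σ.inv ≫ f')
  obtain ⟨eτ⟩ := nonempty_lpull_iso_rpush_inv τ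
  obtain ⟨eσ⟩ := nonempty_lpull_iso_rpush_inv σ
  obtain ⟨e₁⟩ := nonempty_rpush_comp f τ.inv
  obtain ⟨e₂⟩ := nonempty_rpush_comp σ.inv f'
  obtain ⟨e⟩ := nonempty_rpush_congr (f := f ≫ τ.inv) (g := σ.inv ≫ f')
    (by rw [Iso.eq_inv_comp, ← Category.assoc, w, Category.assoc, Iso.hom_inv_id, Category.comp_id])
  exact ⟨Functor.isoWhiskerLeft _ eτ ≪≫ e₁ ≪≫ e ≪≫ e₂.symm ≪≫ Functor.isoWhiskerRight eσ.symm _⟩

end BaseChange

/-- The projection formula for invertible modules, functorially. -/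
theorem nonempty_projection_invertible (f : X ⟶ Y) {N : Y.Modules} (hN : PicF.IsInvertible N)
    [DCoh.HasRpush f] [DCoh.HasLTensorMod N] [DCoh.HasLTensorMod ((Scheme.Modules.pullback f).obj N)] :
    Nonempty (DCoh.LTensorMod ((Scheme.Modules.pullback f).obj N) ⋙ DCoh.Rpush f ≅
      DCoh.Rpush f ⋙ DCoh.LTensorMod N) := by
  obtain ⟨N', hN', h⟩ := H23.PicInv.exists_inverse hN
  haveI := hasLTensorMod N'
  let g := (Scheme.Modules.pullback f).obj N
  let g' := (Scheme.Modules.pullback f).obj N'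
  haveI := hasLTensorMod g'
  haveI := hasLpull f
  obtain ⟨a⟩ := nonempty_lpull_rpush_adj f
  obtain ⟨b⟩ := nonempty_ltm_adj hN' hN ⟨(H23.PicMul.comm N' N).some ≪≫ h.some⟩
  have hg : Nonempty (CohB1.tensorMod g' g ≅ Coh.structureModule X) :=
    ⟨(H23.PicMul.pull f N' N).some.symm ≪≫
      (Scheme.Modules.pullback f).mapIso ((H23.PicMul.comm N' N).some ≪≫ h.some) ≪≫
      (PicClLib.nonempty_pullback_structureModule f).some⟩
  obtain ⟨b'⟩ := nonempty_ltm_adj (PicClLib.isInvertible_pullback f hN')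
    (PicClLib.isInvertible_pullback f hN) hg
  obtain ⟨e⟩ := nonempty_ltm_lpull f (flat_of_isInvertible hN')
  exact ⟨(a.comp b').rightAdjointUniq ((b.comp a).ofNatIsoLeft e)⟩

section Integral

variable {W X' T : Scheme.{u}} (p : W ⟶ X') (q : W ⟶ T) (σ : W ≅ W) {P : W.Modules}

/-- An integral transform after a twist is a translate of the integral transform. -/
theorem nonempty_transform_twist (τ : T ≅ T) {M : X'.Modules} {_ : DCoh.HasLpull p} {_ : DCoh.HasLTensorMod P}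
    {_ : DCoh.HasRpush q} {_ : DCoh.HasLTensorMod M} {_ : DCoh.HasLpull τ.hom}
    (hP : PicF.IsInvertible P) (hM : PicF.IsInvertible M) (w : σ.hom ≫ q = q ≫ τ.hom) (wp : σ.hom ≫ p = p)
    (h : Nonempty (CohB1.tensorMod ((Scheme.Modules.pullback p).obj M) P ≅ (Scheme.Modules.pullback σ.hom).obj P)) :
    Nonempty (DCoh.LTensorMod M ⋙ DCoh.Lpull p ⋙ DCoh.LTensorMod P ⋙ DCoh.Rpush q ≅
      (DCoh.Lpull p ⋙ DCoh.LTensorMod P ⋙ DCoh.Rpush q) ⋙ DCoh.Lpull τ.hom) := by
  haveI := hasLpull σ.hom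
  haveI := hasLpull (σ.hom ≫ p)
  haveI := hasLTensorMod ((Scheme.Modules.pullback p).obj M)
  haveI := hasLTensorMod ((Scheme.Modules.pullback σ.hom).obj P)
  haveI := hasLTensorMod (CohB1.tensorMod ((Scheme.Modules.pullback p).obj M) P)
  obtain ⟨e₁⟩ := nonempty_ltm_lpull p (flat_of_isInvertible hM)
  obtain ⟨e₂⟩ := nonempty_ltm_comp (N := P) (flat_of_isInvertible (PicClLib.isInvertible_pullback p hM))
  obtain ⟨e₃⟩ := nonempty_ltm_congr h.some
  obtain ⟨e₄⟩ := nonempty_baseChange_iso q q σ τ w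
  obtain ⟨e₅⟩ := nonempty_ltm_lpull σ.hom (flat_of_isInvertible hP)
  obtain ⟨e₆⟩ := nonempty_lpull_comp σ.hom p
  obtain ⟨e₇⟩ := nonempty_lpull_congr wp
  let lhs : DCoh.LTensorMod M ⋙ DCoh.Lpull p ⋙ DCoh.LTensorMod P ⋙ DCoh.Rpush q ≅
      DCoh.Lpull p ⋙ DCoh.LTensorMod ((Scheme.Modules.pullback σ.hom).obj P) ⋙ DCoh.Rpush q :=
    (Functor.associator _ _ _).symm ≪≫ Functor.isoWhiskerRight e₁ _ ≪≫ Functor.associator _ _ _ ≪≫
      Functor.isoWhiskerLeft _ ((Functor.associator _ _ _).symm ≪≫ Functor.isoWhiskerRight (e₂ ≪≫ e₃) _)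
  let rhs : (DCoh.Lpull p ⋙ DCoh.LTensorMod P ⋙ DCoh.Rpush q) ⋙ DCoh.Lpull τ.hom ≅
      DCoh.Lpull p ⋙ DCoh.LTensorMod ((Scheme.Modules.pullback σ.hom).obj P) ⋙ DCoh.Rpush q :=
    Functor.associator _ _ _ ≪≫ Functor.isoWhiskerLeft _ (Functor.associator _ _ _ ≪≫
      Functor.isoWhiskerLeft _ e₄ ≪≫ (Functor.associator _ _ _).symm ≪≫ Functor.isoWhiskerRight e₅ _ ≪≫
      Functor.associator _ _ _) ≪≫ (Functor.associator _ _ _).symm ≪≫
    Functor.isoWhiskerRight (e₆ ≪≫ e₇) _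
  exact ⟨lhs ≪≫ rhs.symm⟩

/-- An integral transform of a translate is a twist of the integral transform. -/
theorem nonempty_transform_translate (t : X' ≅ X') {N : T.Modules} {_ : DCoh.HasLpull p}
    {_ : DCoh.HasLTensorMod P} {_ : DCoh.HasRpush q} {_ : DCoh.HasLTensorMod N} {_ : DCoh.HasLpull t.hom}
    (hP : PicF.IsInvertible P) (hN : PicF.IsInvertible N) (wp : σ.hom ≫ p = p ≫ t.hom) (wq : σ.hom ≫ q = q)
    (h : Nonempty (CohB1.tensorMod P ((Scheme.Modules.pullback q).obj N) ≅ (Scheme.Modules.pullback σ.inv).obj P)) :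
    Nonempty (DCoh.Lpull t.hom ⋙ DCoh.Lpull p ⋙ DCoh.LTensorMod P ⋙ DCoh.Rpush q ≅
      (DCoh.Lpull p ⋙ DCoh.LTensorMod P ⋙ DCoh.Rpush q) ⋙ DCoh.LTensorMod N) := by
  let P' := (Scheme.Modules.pullback σ.inv).obj P
  haveI := hasLpull σ.hom
  haveI := hasLpull (σ.hom ≫ p)
  haveI := hasLpull (p ≫ t.hom)
  haveI := hasLpull (Iso.refl T).hom
  haveI := hasLpull (𝟙 T)
  haveI := hasLTensorMod ((Scheme.Modules.pullback q).obj N)
  haveI : DCoh.HasLTensorMod P' := hasLTensorMod _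
  haveI := hasLTensorMod (CohB1.tensorMod P ((Scheme.Modules.pullback q).obj N))
  haveI := hasLTensorMod ((Scheme.Modules.pullback σ.hom).obj P')
  have hback : Nonempty ((Scheme.Modules.pullback σ.hom).obj P' ≅ P) :=
    ⟨(Scheme.Modules.pullbackComp σ.hom σ.inv).app P ≪≫
      eqToIso (congrArg (fun m => (Scheme.Modules.pullback m).obj P) σ.hom_inv_id) ≪≫
      (Scheme.Modules.pullbackId _).app P⟩
  obtain ⟨e₁⟩ := nonempty_ltm_lpull σ.hom (flat_of_isInvertible (PicClLib.isInvertible_pullback σ.inv hP))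
  obtain ⟨e₂⟩ := nonempty_ltm_congr hback.some
  obtain ⟨a₁⟩ := nonempty_lpull_comp p t.hom
  obtain ⟨a₂⟩ := nonempty_lpull_congr wp
  obtain ⟨a₃⟩ := nonempty_lpull_comp σ.hom p
  obtain ⟨e₃⟩ := nonempty_baseChange_iso q q σ (Iso.refl T) (wq.trans (Category.comp_id q).symm)
  obtain ⟨e₄⟩ := nonempty_lpull_id (X := T)
  obtain ⟨e₅⟩ := nonempty_ltm_congr h.some
  obtain ⟨e₆⟩ := nonempty_ltm_comp (N := (Scheme.Modules.pullback q).obj N) (flat_of_isInvertible hP)
  obtain ⟨e₇⟩ := nonempty_projection_invertible q hN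
  let b : DCoh.Lpull σ.hom ⋙ DCoh.LTensorMod P ⋙ DCoh.Rpush q ≅ DCoh.LTensorMod P' ⋙ DCoh.Rpush q :=
    (Functor.associator _ _ _).symm ≪≫
      Functor.isoWhiskerRight (Functor.isoWhiskerLeft _ e₂.symm ≪≫ e₁.symm) _ ≪≫
      Functor.associator _ _ _ ≪≫ Functor.isoWhiskerLeft _ e₃.symm ≪≫
      Functor.isoWhiskerLeft _ (Functor.isoWhiskerLeft _ e₄ ≪≫ Functor.rightUnitor _)
  let d : DCoh.LTensorMod P' ⋙ DCoh.Rpush q ≅ (DCoh.LTensorMod P ⋙ DCoh.Rpush q) ⋙ DCoh.LTensorMod N :=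
    Functor.isoWhiskerRight (e₅.symm ≪≫ e₆.symm) _ ≪≫ Functor.associator _ _ _ ≪≫
      Functor.isoWhiskerLeft _ e₇ ≪≫ (Functor.associator _ _ _).symm
  exact ⟨(Functor.associator _ _ _).symm ≪≫
    Functor.isoWhiskerRight (a₁ ≪≫ a₂.symm ≪≫ a₃.symm) _ ≪≫ Functor.associator _ _ _ ≪≫
    Functor.isoWhiskerLeft _ (b ≪≫ d) ≪≫ (Functor.associator _ _ _).symm⟩

end Integral

end Groth.Agent.FMX
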