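import Groth.Agent.FMX.ExtStalkLin
import Groth.Agent.PD70.ExtShCoh
import Groth.Agent.DEqLib.Sib.PointSheaf
import Groth.Agent.AVPoinc.ExtTop
import Groth.Agent.H23.SpClosed
import Groth.Agent.GrpSchLib.FieldDim
import Groth.Agent.GrpSchLib.SmoothRegular
import Groth.Agent.LC.GorLoc
import Groth.Agent.RPSM.SuppClass
import Groth.Agent.Lib.AVAmple
import Groth.Agent.KFlatLib.Perfect.Betti
import Groth.Agent.QCoh.DevissageP
import Groth.Agent.CurveCohLib.Proper

/-!
`Ext^q(k(x), O) = 0` for `q ≠ g` and `Ext^g(k(x), O) = k(x)` at a rational point of a smooth group scheme.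
-/

set_option autoImplicit false
set_option linter.style.haveILetI false
set_option linter.unusedSectionVars false
set_option backward.isDefEq.respectTransparency false
set_option backward.isDefEq.respectTransparency.types false
set_option maxHeartbeats 1000000

universe u

open CategoryTheory CategoryTheory.Limits MonoidalCategory CartesianMonoidalCategory AlgebraicGeometry Opposite
open TopologicalSpace IsLocalRing

noncomputable section

namespace Groth.Agent.FMX

open KFlatLib Groth.Agent.AVAmple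

section Sky

variable {X : Scheme.{u}} {y : X} (hy : IsClosed ({y} : Set X))
include hy

theorem isZero_stalk_sky {x : X} (hxy : x ≠ y) (N : ModuleCat.{u} (X.presheaf.stalk y)) :
    IsZero ((DerSch.stalkFunctor X x).obj ((sky y).obj N)) := by
  refine IsZero.of_iso ?_ ((stalkToPIso x).app _)
  haveI : Subsingleton (stalkMod x (DCoh.toP.obj ((sky y).obj N)) : Type u) := subsingleton_of_forall_eq 0 fun m => by
    obtain ⟨U, hU, s, rfl⟩ := exists_germP m
    let V : X.Opens := U ⊓ ⟨{y}ᶜ, hy.isOpen_compl⟩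
    have hV : x ∈ V := ⟨hU, hxy⟩
    rw [← germP_res (P := DCoh.toP.obj ((sky y).obj N)) (homOfLE (inf_le_left : V ≤ U)) hV s]
    have h0 : res (DCoh.toP.obj ((sky y).obj N)) (homOfLE (inf_le_left : V ≤ U)) s = 0 :=
      funext fun h => absurd rfl h.down.2
    rw [h0, map_zero]
  exact @ModuleCat.isZero_of_subsingleton _ _ _ this

/-- A module supported at one closed point is the skyscraper of its stalk. -/
theorem nonempty_iso_sky_of_stalk {M : X.Modules} (h : ∀ x, x ≠ y → IsZero ((DerSch.stalkFunctor X x).obj M)) :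
    Nonempty (M ≅ (sky y).obj ((DerSch.stalkFunctor X y).obj M)) := by
  haveI : IsIso ((skyAdj y).unit.app M) := isIso_of_stalk _ fun z => by
    by_cases hz : z = y
    · subst hz; exact DEqLib.Sib.PointSheaf.isIso_stalk_unit z M
    · exact (h z hz).isIso (isZero_stalk_sky hy hz _) _
  exact ⟨asIso ((skyAdj y).unit.app M)⟩

end Sky

section Local

open RingTheory.Sequence

/-- `Ext` of the residue field of a regular local ring into the ring is concentrated in degree `g`. -/
theorem subsingleton_ext_residue {R : Type u} [CommRing R] [IsRegularLocalRing R] {g : ℕ} (hg : ringKrullDim R = g)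
    {i : ℕ} (hi : g < i) : Subsingleton (Abelian.Ext.{u} (ModuleCat.of R (R ⧸ maximalIdeal R)) (ModuleCat.of R R) i) := by
  letI := Ideal.Quotient.field (maximalIdeal R)
  haveI : IsRegularLocalRing (R ⧸ maximalIdeal R) := inferInstance
  obtain ⟨rs, hmem, hw, heq⟩ := RegLoc6.exists_list_of_quotient _ R (maximalIdeal R) le_rfl ‹_›
  have hlen : rs.length = g := by
    have h := Module.supportDim_add_length_eq_supportDim_of_isRegular rs
      (RegLoc6.isRegular_iff_weakly rs hmem hw)
    rw [Module.supportDim_self_eq_ringKrullDim, hg] at h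
    have h0 : Module.supportDim R (R ⧸ (Ideal.ofList rs • ⊤ : Submodule R R)) = 0 := by
      rw [smul_eq_mul, Ideal.mul_top, heq, Module.supportDim_quotient_eq_ringKrullDim]
      exact ringKrullDim_eq_zero_of_field _
    rw [h0, zero_add] at h
    exact_mod_cast h
  have e : IsWeaklyRegular (R ⧸ (⊥ : Ideal R)) rs :=
    ((Submodule.quotEquivOfEqBot (⊥ : Ideal R) rfl).isWeaklyRegular_congr rs).2 hw
  obtain ⟨-, h2⟩ := GrLib8.ext_chain rs ⊥ (GrLib8.regChain_of_isWeaklyRegular rs ⊥ e) (ModuleCat.of R R) _ AVPoinc.ext_self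
  obtain ⟨f⟩ := h2 (i - g)
  rw [hlen, Nat.sub_add_cancel hi.le, if_neg (Nat.sub_ne_zero_of_lt hi), bot_sup_eq, heq] at f
  exact f.toEquiv.subsingleton

end Local

variable {k : Type u} [Field k] {A : Over (Spec (CommRingCat.of k))} [GrpObj A] [IsProper A.hom] [Smooth A.hom]
  (t : 𝟙_ (Over (Spec (CommRingCat.of k))) ⟶ A)

/-- The skyscraper at a rational point. -/
abbrev ptSheaf : A.left.Modules :=
  (Scheme.Modules.pushforward t.left).obj (Coh.structureModule (Spec (CommRingCat.of k)))

instance isClosedImmersion_pt : IsClosedImmersion t.left :=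
  isClosedImmersion_of_comp_eq_id (Y := Spec (CommRingCat.of k)) A.hom t.left (Over.w t)

theorem isCoh_ptSheaf : Coh.IsCoh (ptSheaf t) := by
  letI : A.left.Over (Spec (CommRingCat.of k)) := ⟨A.hom⟩
  haveI : IsProper (A.left ↘ Spec (CommRingCat.of k)) := ‹IsProper A.hom›
  haveI : AlgebraicGeometry.IsNoetherian A.left := CurveCohLib.isNoetherian_of_proper (k := k) (X := A.left)
  haveI : IsLocallyNoetherian (𝟙_ (Over (Spec (CommRingCat.of k)))).left :=
    inferInstanceAs (IsLocallyNoetherian (Spec (CommRingCat.of k)))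
  exact QCoh.isCoh_push t.left QCoh.isCoh_structureModule'

theorem isClosed_ptSheaf : IsClosed ({pt t} : Set A.left) := by
  haveI : Subsingleton ↥(𝟙_ (Over (Spec (CommRingCat.of k)))).left := inferInstanceAs (Subsingleton (PrimeSpectrum k))
  rw [show ({pt t} : Set A.left) = Set.range t.left from
    Set.Subset.antisymm (Set.singleton_subset_iff.2 ⟨_, rfl⟩)
      (Set.range_subset_iff.2 fun z => by rw [Subsingleton.elim z (IsLocalRing.closedPoint k)]; rfl)]
  exact t.left.isClosedEmbedding.isClosed_range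

theorem isZero_stalk_ptSheaf {x : A.left} (hx : x ≠ pt t) : IsZero ((DerSch.stalkFunctor A.left x).obj (ptSheaf t)) := by
  haveI : Subsingleton ↥(𝟙_ (Over (Spec (CommRingCat.of k)))).left := inferInstanceAs (Subsingleton (PrimeSpectrum k))
  refine (RPSM.notMem_support_iff_isZero _ x).1 fun h => hx ?_
  obtain ⟨z, rfl⟩ := QCoh.support_push_subset t.left QCoh.isQCoh_structureModule h
  exact congrArg _ (Subsingleton.elim _ _)

theorem nonempty_stalk_ptSheaf : Nonempty ((DerSch.stalkFunctor A.left (pt t)).obj (ptSheaf t) ≅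
    ModuleCat.of (A.left.presheaf.stalk (pt t))
      (A.left.presheaf.stalk (pt t) ⧸ maximalIdeal (A.left.presheaf.stalk (pt t)))) := by
  let p : ↥(𝟙_ (Over (Spec (CommRingCat.of k)))).left := IsLocalRing.closedPoint k
  obtain ⟨e⟩ := H23.SpClosed.nonempty_quotEquiv t.left p
  have hf : IsField ((𝟙_ (Over (Spec (CommRingCat.of k)))).left.presheaf.stalk p) :=
    KFlatLib.isField_stalk_spec k p
  letI := hf.toField
  have hm : RingHom.ker (t.left.stalkMap p).hom = maximalIdeal (A.left.presheaf.stalk (pt t)) :=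
    IsLocalRing.eq_maximalIdeal (RingHom.ker_isMaximal_of_surjective _ (t.left.stalkMap_surjective p))
  exact ⟨LinearEquiv.toModuleIso (e.trans (Submodule.quotEquivOfEq _ _ hm))⟩

variable {g : ℕ} (hg : topologicalKrullDim A.left = g)
include hg

theorem local_facts : IsRegularLocalRing (A.left.presheaf.stalk (pt t)) ∧
    ringKrullDim (A.left.presheaf.stalk (pt t)) = g :=
  ⟨GrpSchLib.isRegularLocalRing_stalk_of_smooth A.hom (pt t),
    (GrpSchLib.ringKrullDim_stalk_eq (isClosed_ptSheaf t)).trans hg⟩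

variable [IsLocallyNoetherian A.left] [HasInjectiveResolutions (ModSite.Mod A.left.sheaf)]
  [ModSite.HasSheafHom (O := A.left.sheaf) (ptSheaf t)]

theorem isZero_stalk_extSh_ptSheaf {q : ℕ} {x : A.left} (h : q ≠ g ∨ x ≠ pt t) :
    IsZero ((DerSch.stalkFunctor A.left x).obj
      ((ModSite.extSh (O := A.left.sheaf) (ptSheaf t) q).obj (Coh.structureModule A.left))) := by
  have hfp : CohB1.IsFP (ptSheaf t) :=
    QCoh.isCoh_iff_isFP.1 (isCoh_ptSheaf t)
  refine (PD70.isZero_stalk_extSh_iff _ x hfp q _).2 ?_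
  by_cases hx : x = pt t
  · subst hx
    obtain ⟨e⟩ := nonempty_stalk_ptSheaf t
    obtain ⟨hreg, hdim⟩ := local_facts t hg
    haveI := hreg
    let eO := (stalkToPIso (pt t)).app (Coh.structureModule A.left) ≪≫
      (LinearEquiv.toModuleIso (stalkUnitEquiv (pt t))).symm
    have hq : q ≠ g := h.resolve_right fun h' => h' rfl
    haveI : Subsingleton (Abelian.Ext.{u} (ModuleCat.of (A.left.presheaf.stalk (pt t))
        (A.left.presheaf.stalk (pt t) ⧸ maximalIdeal (A.left.presheaf.stalk (pt t))))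
        (ModuleCat.of (A.left.presheaf.stalk (pt t)) (A.left.presheaf.stalk (pt t))) q) := by
      rcases lt_or_gt_of_ne hq with hlt | hgt
      · exact (AVPoinc.ext_residue_self hdim).1 q hlt
      · exact subsingleton_ext_residue hdim hgt
    exact (LC.extCongr e eO q).toEquiv.subsingleton
  · have hz := isZero_stalk_ptSheaf t hx
    exact subsingleton_of_forall_eq 0 fun z => by
      rw [← Abelian.Ext.mk₀_id_comp z, hz.eq_of_src (𝟙 _) 0, Abelian.Ext.mk₀_zero, Abelian.Ext.zero_comp]

/-- `Ext^q(k(x), O) = 0` for `q ≠ g`. -/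
theorem isZero_extSh_ptSheaf {q : ℕ} (h : q ≠ g) :
    IsZero ((ModSite.extSh (O := A.left.sheaf) (ptSheaf t) q).obj (Coh.structureModule A.left)) :=
  AVPhi.isZero_of_stalks fun _ => ModuleCat.subsingleton_of_isZero (isZero_stalk_extSh_ptSheaf t hg (Or.inl h))

/-- `Ext^g(k(x), O) = k(x)`. -/
theorem nonempty_extSh_ptSheaf_iso :
    Nonempty ((ModSite.extSh (O := A.left.sheaf) (ptSheaf t) g).obj (Coh.structureModule A.left) ≅ ptSheaf t) := by
  have hfp : CohB1.IsFP (ptSheaf t) :=
    QCoh.isCoh_iff_isFP.1 (isCoh_ptSheaf t)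
  have hcl := isClosed_ptSheaf t
  obtain ⟨a⟩ := nonempty_iso_sky_of_stalk hcl (M := ptSheaf t) fun x hx => isZero_stalk_ptSheaf t hx
  obtain ⟨b⟩ := nonempty_iso_sky_of_stalk hcl
    (M := (ModSite.extSh (O := A.left.sheaf) (ptSheaf t) g).obj (Coh.structureModule A.left)) fun x hx =>
      isZero_stalk_extSh_ptSheaf t hg (Or.inr hx)
  obtain ⟨hreg, hdim⟩ := local_facts t hg
  haveI := hreg
  obtain ⟨e⟩ := nonempty_stalk_ptSheaf t
  obtain ⟨f⟩ := nonempty_stalk_extSh_linearEquiv (ptSheaf t) (pt t) hfp g (Coh.structureModule A.left)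
  obtain ⟨top⟩ := (AVPoinc.ext_residue_self hdim).2
  let eO := (stalkToPIso (pt t)).app (Coh.structureModule A.left) ≪≫
    (LinearEquiv.toModuleIso (stalkUnitEquiv (pt t))).symm
  exact ⟨b ≪≫ (sky (pt t)).mapIso (LinearEquiv.toModuleIso ((f.trans (LC.extCongr e eO g)).trans top) ≪≫ e.symm) ≪≫
    a.symm⟩

end Groth.Agent.FMX
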