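import Groth.Agent.PD70.ExtShCoh
import Groth.Agent.KFlatLib.Scheme.InnerHom
import Groth.Agent.KFlatLib.Scheme.RpushQCoh
import Groth.Agent.DualLib.ClosedDerived
import Groth.Agent.KFlatLib.SingleIso

/-!
The cohomology sheaves of `RHom(M, G)` for two modules placed in degree zero are the sheaves `Ext^q(M, G)`.
-/

set_option autoImplicit false
set_option linter.style.haveILetI false
set_option backward.isDefEq.respectTransparency false
set_option backward.isDefEq.respectTransparency.types false
set_option maxHeartbeats 800000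

universe u

open CategoryTheory CategoryTheory.Limits AlgebraicGeometry
attribute [local instance] HasDerivedCategory.standard

noncomputable section

namespace Groth.Agent.FMX

open KFlatLib

variable {X : Scheme.{u}}

/-- The internal hom out of a module in degree zero is `Hom(M, -)` termwise. -/
theorem nonempty_iHom_single_iso (M : X.Modules) :
    Nonempty ((iHom) ((HomologicalComplex.single X.Modules (ComplexShape.up ℤ) 0).obj M) ≅
      (PD70.homFun M).mapHomologicalComplex (ComplexShape.up ℤ)) := by
  let e : Inner.tenX (DCoh.tensorBi (X := X)) ((HomologicalComplex.single X.Modules (ComplexShape.up ℤ) 0).obj M) ≅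
      (DCoh.tensorBi.obj M).mapHomologicalComplex (ComplexShape.up ℤ) :=
    singleIso DCoh.tensorBi M ≪≫ NatIso.mapHomologicalComplex ((tensorBiFlipIso X).app M) _
  exact ⟨(Inner.innerAdj DCoh.tensorBi _).rightAdjointUniq
    ((DualLib.ClosedDerived.mapCxAdj (PD70.homFunAdj M) _).ofNatIsoLeft e.symm)⟩

variable (M G : X.Modules)
  [DCoh.HasLTensorCx ((HomologicalComplex.single X.Modules (ComplexShape.up ℤ) 0).obj M)]
  [DCoh.HasRSheafHom ((HomologicalComplex.single X.Modules (ComplexShape.up ℤ) 0).obj M)]

/-- `RHom(M, G)` is computed by an injective resolution of `G`. -/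
theorem nonempty_RSheafHom_single_iso (R : InjectiveResolution G) :
    Nonempty ((DCoh.RSheafHom ((HomologicalComplex.single X.Modules (ComplexShape.up ℤ) 0).obj M)).obj (DCoh.inD X G) ≅
      DerivedCategory.Q.obj (((PD70.homFun M).mapHomologicalComplex (ComplexShape.up ℤ)).obj R.cochainComplex)) := by
  haveI : R.cochainComplex.IsKInjective := CochainComplex.isKInjective_of_injective _ 0
  haveI : ∀ n, Injective (R.cochainComplex.X n) := fun n => by
    by_cases h : ∃ k : ℕ, (k : ℤ) = n
    · obtain ⟨k, hk⟩ := h
      exact Injective.of_iso (R.cochainComplexXIso n k hk).symm inferInstance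
    · exact (HomologicalComplex.isZero_extend_X _ _ n fun k hk => h ⟨k, hk⟩).injective
  obtain ⟨e⟩ := nonempty_RSheafHom_iso ((HomologicalComplex.single X.Modules (ComplexShape.up ℤ) 0).obj M) R.cochainComplex
  obtain ⟨e'⟩ := nonempty_iHom_single_iso M
  exact ⟨(DCoh.RSheafHom _).mapIso ((((SingleFunctors.evaluation _ _ 0).mapIso
      (DerivedCategory.singleFunctorsPostcompQIso X.Modules)).app G) ≪≫
    asIso (DerivedCategory.Q.map R.ι')) ≪≫ e ≪≫ DerivedCategory.Q.mapIso (e'.app _)⟩

variable [HasInjectiveResolutions (ModSite.Mod X.sheaf)]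

/-- The cohomology sheaves of `RHom(M, G)` in degree `q ≥ 0`. -/
theorem nonempty_HD_RSheafHom_single (q : ℕ) [ModSite.HasSheafHom (O := X.sheaf) M] :
    Nonempty (DCoh.HD ((DCoh.RSheafHom ((HomologicalComplex.single X.Modules (ComplexShape.up ℤ) 0).obj M)).obj
      (DCoh.inD X G)) (q : ℤ) ≅ (ModSite.extSh (O := X.sheaf) M q).obj G) := by
  obtain ⟨R⟩ := HasInjectiveResolution.out (Z := G)
  obtain ⟨e⟩ := nonempty_RSheafHom_single_iso M G R
  exact ⟨(DerivedCategory.homologyFunctor X.Modules q).mapIso e ≪≫
    (DerivedCategory.homologyFunctorFactors X.Modules q).app _ ≪≫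
    (HomologicalComplex.homologyFunctor X.Modules (ComplexShape.up ℤ) (q : ℤ)).mapIso
      (TriCat.mapExtendIso (PD70.homFun M) ComplexShape.embeddingUpNat R.cocomplex) ≪≫
    HomologicalComplex.extendHomologyIso _ ComplexShape.embeddingUpNat (j := q) (j' := (q : ℤ)) rfl ≪≫
    PD70.resCxIso M G R q⟩

/-- `RHom(M, G)` lives in nonnegative degrees. -/
theorem isZero_HD_RSheafHom_single_of_neg (p : ℤ) (hp : p < 0) :
    IsZero (DCoh.HD ((DCoh.RSheafHom ((HomologicalComplex.single X.Modules (ComplexShape.up ℤ) 0).obj M)).obj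
      (DCoh.inD X G)) p) := by
  obtain ⟨R⟩ := HasInjectiveResolution.out (Z := G)
  obtain ⟨e⟩ := nonempty_RSheafHom_single_iso M G R
  refine IsZero.of_iso ?_ ((DerivedCategory.homologyFunctor X.Modules p).mapIso e ≪≫
    (DerivedCategory.homologyFunctorFactors X.Modules p).app _ ≪≫
    (HomologicalComplex.homologyFunctor X.Modules (ComplexShape.up ℤ) p).mapIso
      (TriCat.mapExtendIso (PD70.homFun M) ComplexShape.embeddingUpNat R.cocomplex))
  refine (HomologicalComplex.exactAt_iff_isZero_homology _ _).1 (HomologicalComplex.extend_exactAt _ _ _ fun k hk => ?_)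
  simp only [ComplexShape.embeddingUpNat_f] at hk
  omega

end Groth.Agent.FMX
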