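import Groth.Agent.PD70.ExtShStalk
import Mathlib.CategoryTheory.Linear.Yoneda
import Mathlib.Algebra.Homology.DerivedCategory.Ext.Linear

/-!
The stalks of `extSh` are the `Ext` modules of the stalks, linearly over the local ring.
-/

set_option autoImplicit false
set_option linter.style.haveILetI false
set_option backward.isDefEq.respectTransparency false
set_option backward.isDefEq.respectTransparency.types false
set_option maxHeartbeats 1000000

universe v u

open CategoryTheory CategoryTheory.Limits AlgebraicGeometry Opposite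

noncomputable section

namespace Groth.Agent.FMX

section Linear

variable {R : Type u} [CommRing R] {C : Type*} [Category C] [Abelian C] [EnoughInjectives C] [Linear R C]
  {D : Type*} [Category D] [Abelian D] [Linear R D]

/-- The right derived functors of a linear functor are linear. -/
theorem rightDerived_map_smul (F : C ⥤ D) [F.Additive] [F.Linear R] (q : ℕ) (G : C) (r : R) :
    (F.rightDerived q).map (r • 𝟙 G) = r • 𝟙 ((F.rightDerived q).obj G) := by
  let I := injectiveResolution G
  have h := InjectiveResolution.isoRightDerivedObj_hom_naturality (r • 𝟙 G) I I (r • 𝟙 I.cocomplex)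
    (by
      rw [HomologicalComplex.smul_f_apply, HomologicalComplex.id_f, Linear.comp_smul, Linear.smul_comp]
      erw [Category.comp_id, Category.id_comp]) F q
  have h2 : (F.mapHomologicalComplex (ComplexShape.up ℕ) ⋙ HomologicalComplex.homologyFunctor D _ q).map
      (r • 𝟙 I.cocomplex) = r • 𝟙 _ := by
    rw [Functor.comp_map, show (F.mapHomologicalComplex (ComplexShape.up ℕ)).map (r • 𝟙 I.cocomplex) =
      r • 𝟙 _ from HomologicalComplex.hom_ext _ _ fun n => by
        show F.map ((r • 𝟙 I.cocomplex : I.cocomplex ⟶ I.cocomplex).f n) = _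
        rw [HomologicalComplex.smul_f_apply, HomologicalComplex.smul_f_apply, HomologicalComplex.id_f,
          HomologicalComplex.id_f, F.map_smul, F.map_id]; rfl]
    show ShortComplex.homologyMap
      ((HomologicalComplex.shortComplexFunctor D (ComplexShape.up ℕ) q).map (r • 𝟙 _)) = _
    rw [show (HomologicalComplex.shortComplexFunctor D (ComplexShape.up ℕ) q).map
      (r • 𝟙 ((F.mapHomologicalComplex (ComplexShape.up ℕ)).obj I.cocomplex)) = r • 𝟙 _ from rfl,
      ShortComplex.homologyMap_smul, ShortComplex.homologyMap_id]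
    rfl
  rw [h2] at h
  refine (cancel_mono (I.isoRightDerivedObj F q).hom).1 (h.trans ?_)
  exact (Linear.comp_smul _ _ _ _ _ _).trans ((congrArg (r • ·) ((Category.comp_id _).trans
    (Category.id_comp _).symm)).trans (Linear.smul_comp _ _ _ _ _ _).symm)

end Linear

section Ring

variable {R : Type u} [CommRing R] (P : ModuleCat.{u} R) (q : ℕ)

/-- `Hom(P, -)` with values in modules. -/
abbrev homLin : ModuleCat.{u} R ⥤ ModuleCat.{u} R := (linearCoyoneda R (ModuleCat.{u} R)).obj (op P)

instance linear_homLin : (homLin P).Linear R where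
  map_smul f r := ModuleCat.hom_ext (LinearMap.ext fun φ => Linear.comp_smul _ _ _ φ r f)

/-- The derived functors of `Hom(P, -)` are `Ext`, naturally. -/
def homLinExtIso : (homLin P).rightDerived q ⋙ forget₂ (ModuleCat.{u} R) AddCommGrpCat.{u} ≅
    (Abelian.extFunctor (C := ModuleCat.{u} R) q).obj (op P) :=
  let A := forget₂ (ModuleCat.{u} R) AddCommGrpCat.{u}
  let ev := (evaluation (Discrete PUnit.{u + 1})ᵒᵖ AddCommGrpCat.{u}).obj (op ⟨PUnit.unit⟩)
  (SiteBase.rightDerivedCompIso (homLin P) A q).symm ≪≫
    SiteBase.rightDerivedCongr (F := homLin P ⋙ A) (G := SpObjSS.homFromPsh P ⋙ ev)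
      (NatIso.ofComponents (fun _ => Iso.refl _) (fun _ => (Category.comp_id _).trans (Category.id_comp _).symm)) q ≪≫
    SiteBase.rightDerivedCompIso (SpObjSS.homFromPsh P) ev q ≪≫
    Functor.isoWhiskerRight ((SpObjSS.homFromPres P).rightDerivedIso q) ev

/-- The derived functors of `Hom(P, -)` are `Ext`, linearly. -/
theorem nonempty_homLin_linearEquiv (G : ModuleCat.{u} R) :
    Nonempty (((homLin P).rightDerived q).obj G ≃ₗ[R] Abelian.Ext.{u} P G q) := by
  let e : ((homLin P).rightDerived q).obj G ≃+ Abelian.Ext.{u} P G q :=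
    ((homLinExtIso P q).app G).addCommGroupIsoToAddEquiv
  refine ⟨{ toFun := e, map_add' := e.map_add, map_smul' := fun r z => ?_, invFun := e.symm,
            left_inv := e.left_inv, right_inv := e.right_inv }⟩
  have h := congrArg (fun φ => φ.hom z) ((homLinExtIso P q).hom.naturality (r • 𝟙 G))
  change e ((((homLin P).rightDerived q).map (r • 𝟙 G)).hom z) =
    (e z).comp (Abelian.Ext.mk₀ (r • 𝟙 G)) (add_zero q) at h
  have h2 : ((homLin P).rightDerived q).map (r • 𝟙 G) = r • 𝟙 (((homLin P).rightDerived q).obj G) :=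
    rightDerived_map_smul (homLin P) q G r
  have h3 : (e z).comp (Abelian.Ext.mk₀ (r • 𝟙 G)) (add_zero q) = r • e z := by
    rw [Abelian.Ext.mk₀_smul, Abelian.Ext.comp_smul, Abelian.Ext.comp_mk₀_id]
  exact ((congrArg (fun φ : ((homLin P).rightDerived q).obj G ⟶ ((homLin P).rightDerived q).obj G => e (φ.hom z))
    h2).symm.trans h).trans h3

end Ring

section Stalk

variable {X : Scheme.{u}} (M : X.Modules) [ModSite.HasSheafHom (O := X.sheaf) M] (x : X)

/-- The stalk of the internal Hom is the module of homomorphisms of the stalks. -/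
def stalkHomLinIso (hM : CohB1.IsFP M) :
    ModSite.sheafHom (O := X.sheaf) M ⋙ PD70.stalkS x ≅
      PD70.stalkS x ⋙ homLin ((DerSch.stalkFunctor X x).obj M) :=
  Functor.isoWhiskerRight (PD70.sheafHomIsoHomFun M) _ ≪≫
    NatIso.ofComponents (fun G => LinearEquiv.toModuleIso
      ((LinearEquiv.ofBijective (RefHull.evalStalk M G x) (RefX.evalStalk_bijective (G := G) hM x)).trans
        (ModuleCat.homLinearEquiv (S := X.presheaf.stalk x) (M := (DerSch.stalkFunctor X x).obj M)
          (N := (DerSch.stalkFunctor X x).obj G)).symm)) fun {G G'} g => by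
      refine ModuleCat.hom_ext (LinearMap.ext fun θ => ModuleCat.hom_ext ?_)
      exact BunLib68.evalStalk_map g x θ

include x in
/-- The stalk of `extSh` is `Ext` of the stalks. -/
theorem nonempty_stalk_extSh_linearEquiv [IsLocallyNoetherian X] [HasInjectiveResolutions (ModSite.Mod X.sheaf)]
    (hM : CohB1.IsFP M) (q : ℕ) (G : X.Modules) :
    Nonempty ((DerSch.stalkFunctor X x).obj ((ModSite.extSh (O := X.sheaf) M q).obj G) ≃ₗ[X.presheaf.stalk x]
      Abelian.Ext.{u} ((DerSch.stalkFunctor X x).obj M) ((DerSch.stalkFunctor X x).obj G) q) := by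
  haveI : EnoughInjectives (ModSite.Mod X.sheaf) := SpObjSS.enoughInjectives_of_hasInjectiveResolutions
  haveI : PreservesFiniteLimits (PD70.stalkS x) := inferInstanceAs (PreservesFiniteLimits (DerSch.stalkFunctor X x))
  haveI : PreservesFiniteColimits (PD70.stalkS x) := inferInstanceAs (PreservesFiniteColimits (DerSch.stalkFunctor X x))
  haveI : (PD70.stalkS x).Additive := Functor.additive_of_preserves_binary_products _
  haveI : (PD70.stalkS x).PreservesInjectiveObjects := PD70.preservesInjectiveObjects_stalk x
  let P := (DerSch.stalkFunctor X x).obj M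
  let e := (SiteBase.rightDerivedCompIso (ModSite.sheafHom (O := X.sheaf) M) (PD70.stalkS x) q).symm ≪≫
    SiteBase.rightDerivedCongr (stalkHomLinIso M x hM) q ≪≫
    SiteBase.rightDerivedPrecompIso (PD70.stalkS x) (homLin P) q
  obtain ⟨f⟩ := nonempty_homLin_linearEquiv P q ((DerSch.stalkFunctor X x).obj G)
  exact ⟨(e.app G).toLinearEquiv.trans f⟩

end Stalk

end Groth.Agent.FMX
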