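import Groth.Agent.FMX.BaseChange
import Groth.Agent.KFlatLib.Scheme.ProjFormula
import Groth.Agent.KFlatLib.InnerUnit
import Groth.Agent.S0949

/-!
The projection formula, functorially in the pulled back variable: integral kernels along two morphisms with the
same derived direct image give isomorphic functors.
-/

set_option autoImplicit false
set_option linter.style.haveILetI false
set_option linter.unusedSectionVars false
set_option backward.isDefEq.respectTransparency false
set_option backward.isDefEq.respectTransparency.types false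

universe u

open CategoryTheory CategoryTheory.Limits AlgebraicGeometry
attribute [local instance] HasDerivedCategory.standard

noncomputable section

namespace Groth.Agent.FMX

open KFlatLib

variable {X Y : Scheme.{u}}

/-- Functors with a common value on K-flat complexes have the same lift. -/
theorem nonempty_kLift_congr {G G' : CochainComplex Y.Modules ℤ ⥤ CochainComplex X.Modules ℤ}
    (hG : KRespects G) (hG' : KRespects G') (η : G ⟶ G')
    (h : ∀ P, DCoh.IsKFlat P → QuasiIso (η.app P)) : Nonempty (kLift hG ≅ kLift hG') := by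
  let t := Functor.whiskerLeft (kRes Y) (Functor.whiskerRight η (DerivedCategory.Q : _ ⥤ DCoh.D X))
  haveI : ∀ K, IsIso (t.app K) := fun K => isIso_Q_map _ (h _ (isKFlat_kRes K))
  haveI := NatIso.isIso_of_isIso_app t
  exact ⟨Localization.liftNatIso DerivedCategory.Q (qisX Y) (DerivedCategory.Q ⋙ kLift hG)
    (DerivedCategory.Q ⋙ kLift hG') _ _ (kLiftFac hG ≪≫ asIso t ≪≫ (kLiftFac hG').symm)⟩

/-- `- ⊗^L R` only sees the class of `R`. -/
theorem nonempty_projTenF_congr {R R' : CochainComplex Y.Modules ℤ}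
    (e : DerivedCategory.Q.obj R ≅ DerivedCategory.Q.obj R') : Nonempty (projTenF R ≅ projTenF R') := by
  obtain ⟨Z, s, hs, g, hg⟩ := DerivedCategory.right_fac e.hom
  haveI : IsIso (DerivedCategory.Q.map s) := hs
  haveI : IsIso (DerivedCategory.Q.map g) := by
    rw [show DerivedCategory.Q.map g = DerivedCategory.Q.map s ≫ e.hom by rw [hg, IsIso.hom_inv_id_assoc]]
    infer_instance
  haveI : QuasiIso s := (DerivedCategory.isIso_Q_map_iff_quasiIso _ _).1 inferInstance
  haveI : QuasiIso g := (DerivedCategory.isIso_Q_map_iff_quasiIso _ _).1 inferInstance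
  obtain ⟨e₁⟩ := nonempty_kLift_congr (kRespects_tensor Z) (kRespects_tensor R) (DCoh.tensorCx.map s)
    fun P hP => S0949.result P hP s
  obtain ⟨e₂⟩ := nonempty_kLift_congr (kRespects_tensor Z) (kRespects_tensor R') (DCoh.tensorCx.map g)
    fun P hP => S0949.result P hP g
  exact ⟨e₁.symm ≪≫ e₂⟩

variable (f : X ⟶ Y)

/-- `I ⊗^L Lf^*` only sees the class of `I`. -/
theorem nonempty_projH_congr {I I' : CochainComplex X.Modules ℤ}
    (e : DerivedCategory.Q.obj I ≅ DerivedCategory.Q.obj I') : Nonempty (projH f I ≅ projH f I') := by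
  obtain ⟨Z, s, hs, g, hg⟩ := DerivedCategory.right_fac e.hom
  haveI : IsIso (DerivedCategory.Q.map s) := hs
  haveI : IsIso (DerivedCategory.Q.map g) := by
    rw [show DerivedCategory.Q.map g = DerivedCategory.Q.map s ≫ e.hom by rw [hg, IsIso.hom_inv_id_assoc]]
    infer_instance
  haveI : QuasiIso s := (DerivedCategory.isIso_Q_map_iff_quasiIso _ _).1 inferInstance
  haveI : QuasiIso g := (DerivedCategory.isIso_Q_map_iff_quasiIso _ _).1 inferInstance
  obtain ⟨e₁⟩ := nonempty_kLift_congr (kRespects_pullTensor f Z) (kRespects_pullTensor f I)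
    (Functor.whiskerLeft (pullCx f) (DCoh.tensorCx.map s))
    fun P hP => S0949.result _ (isKFlat_pullback f hP) s
  obtain ⟨e₂⟩ := nonempty_kLift_congr (kRespects_pullTensor f Z) (kRespects_pullTensor f I')
    (Functor.whiskerLeft (pullCx f) (DCoh.tensorCx.map g))
    fun P hP => S0949.result _ (isKFlat_pullback f hP) g
  exact ⟨e₁.symm ≪≫ e₂⟩

/-- The projection formula, functorially in the quasi-coherent object downstairs. -/
theorem nonempty_proj [QuasiCompact f] [QuasiSeparated f] [DCoh.HasRpush f] (I : CochainComplex X.Modules ℤ)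
    (hI : DCoh.IsQCohD (DerivedCategory.Q.obj I)) (R : CochainComplex Y.Modules ℤ)
    (e : DerivedCategory.Q.obj R ≅ (DCoh.Rpush f).obj (DerivedCategory.Q.obj I)) :
    Nonempty (ObjectProperty.ι (DCoh.IsQCohD (X := Y)) ⋙ projTenF R ≅
      ObjectProperty.ι (DCoh.IsQCohD (X := Y)) ⋙ projH f I ⋙ DCoh.Rpush f) := by
  obtain ⟨I₀, _, _, ⟨eI⟩⟩ := exists_kInjective_rep (DerivedCategory.Q.obj I)
  obtain ⟨ep⟩ := nonempty_rpush_iso_of_kInjective (f := f) (I := I₀) (Iso.refl _)
  let R₀ := (kRes Y).obj ((pushCxF f).obj I₀)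
  let a : R₀ ⟶ (pushCxF f).obj I₀ := (flatCover Y).ψ.app _
  haveI : QuasiIso a := (flatCover Y).quasiIso_ψ _
  haveI := isIso_Q_map a inferInstance
  obtain ⟨eR⟩ := nonempty_projTenF_congr (R := R) (R' := R₀)
    (e ≪≫ (DCoh.Rpush f).mapIso eI ≪≫ ep ≪≫ (asIso (DerivedCategory.Q.map a)).symm)
  obtain ⟨eH⟩ := nonempty_projH_congr f eI
  let G := ObjectProperty.ι (DCoh.IsQCohD (X := Y))
  let θ := Functor.whiskerLeft G (projθ f I₀ a)
  haveI : ∀ M, IsIso (θ.app M) := fun M => by
    let P := DerivedCategory.Q.objPreimage M.obj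
    have hP := isQCohD_of_iso (DerivedCategory.Q.objObjPreimageIso M.obj).symm M.property
    haveI := isIso_projθ f I₀ a (isKFlat_kRes _) (isQCohD_of_iso eI hI) P hP
    exact (NatTrans.isIso_app_iff_of_iso (projθ f I₀ a) (DerivedCategory.Q.objObjPreimageIso M.obj)).1
      inferInstance
  haveI := NatIso.isIso_of_isIso_app θ
  exact ⟨Functor.isoWhiskerLeft G eR ≪≫ asIso θ ≪≫
    Functor.isoWhiskerLeft G (Functor.isoWhiskerRight eH.symm _)⟩

/-- A twisted pullback is a kernel functor. -/
theorem nonempty_projH_twist (M : X.Modules) [DCoh.HasLpull f] [DCoh.HasLTensorMod M] :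
    Nonempty (projH f ((HomologicalComplex.single X.Modules (ComplexShape.up ℤ) 0).obj M) ≅
      DCoh.Lpull f ⋙ DCoh.LTensorMod M) := by
  let S := (HomologicalComplex.single X.Modules (ComplexShape.up ℤ) 0).obj M
  haveI : ∀ K, IsIso ((Functor.whiskerLeft (kRes Y ⋙ pullCx f) (ltensorModComparison M)).app K) :=
    fun K => isIso_ltensorModComparison M (isKFlat_pullback f (isKFlat_kRes K))
  haveI := NatIso.isIso_of_isIso_app (Functor.whiskerLeft (kRes Y ⋙ pullCx f) (ltensorModComparison M))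
  let t : DCoh.tensorCx.obj S ≅ tensorModCx M :=
    (symmIso (tensorBiFlipIso X) S).symm ≪≫ singleIso DCoh.tensorBi M
  let r : DerivedCategory.Q ⋙ DCoh.Lpull f ⋙ DCoh.LTensorMod M ≅
      kRes Y ⋙ (pullCx f ⋙ DCoh.tensorCx.obj S) ⋙ DerivedCategory.Q :=
    (Functor.associator _ _ _).symm ≪≫ Functor.isoWhiskerRight (lpullResIso f) _ ≪≫
      Functor.associator _ _ _ ≪≫ Functor.isoWhiskerLeft _ (Functor.associator _ _ _) ≪≫
      (Functor.associator _ _ _).symm ≪≫
      asIso (Functor.whiskerLeft (kRes Y ⋙ pullCx f) (ltensorModComparison M)) ≪≫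
      Functor.associator _ _ _ ≪≫ Functor.isoWhiskerLeft _
        (Functor.isoWhiskerLeft _ (Functor.isoWhiskerRight t.symm _) ≪≫ (Functor.associator _ _ _).symm)
  exact ⟨Localization.liftNatIso DerivedCategory.Q (qisX Y) (DerivedCategory.Q ⋙ projH f S)
    (DerivedCategory.Q ⋙ DCoh.Lpull f ⋙ DCoh.LTensorMod M) _ _
    (kLiftFac (kRespects_pullTensor f S) ≪≫ r.symm)⟩

/-- The kernel functor of the structure module in degree `m` is a shifted pullback. -/
theorem nonempty_projH_unit (m : ℤ) [DCoh.HasLpull f] :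
    Nonempty (projH f ((HomologicalComplex.single X.Modules (ComplexShape.up ℤ) m).obj (Coh.structureModule X)) ≅
      DCoh.Lpull f ⋙ shiftFunctor (DCoh.D X) (-m)) := by
  let S := (HomologicalComplex.single X.Modules (ComplexShape.up ℤ) m).obj (Coh.structureModule X)
  let t : DCoh.tensorCx.obj S ≅ shiftFunctor (CochainComplex X.Modules ℤ) (-m) :=
    (symmIso (tensorBiFlipIso X) S).symm ≪≫
      Inner.tensorUnitShiftIso (DCoh.tensorBi (X := X)) (Coh.structureModule X) (tensorStructureIso X) m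
  let r : DerivedCategory.Q ⋙ DCoh.Lpull f ⋙ shiftFunctor (DCoh.D X) (-m) ≅
      kRes Y ⋙ (pullCx f ⋙ DCoh.tensorCx.obj S) ⋙ DerivedCategory.Q :=
    (Functor.associator _ _ _).symm ≪≫ Functor.isoWhiskerRight (lpullResIso f) _ ≪≫
      Functor.associator _ _ _ ≪≫ Functor.isoWhiskerLeft _ (Functor.associator _ _ _ ≪≫
        Functor.isoWhiskerLeft _ ((DerivedCategory.Q.commShiftIso (-m)).symm ≪≫
          Functor.isoWhiskerRight t.symm _) ≪≫ (Functor.associator _ _ _).symm)
  exact ⟨Localization.liftNatIso DerivedCategory.Q (qisX Y) (DerivedCategory.Q ⋙ projH f S)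
    (DerivedCategory.Q ⋙ DCoh.Lpull f ⋙ shiftFunctor (DCoh.D X) (-m)) _ _
    (kLiftFac (kRespects_pullTensor f S) ≪≫ r.symm)⟩

variable {Z : Scheme.{u}} (δ : Z ⟶ Y)

/-- Two kernels with the same direct image: a twisted pullback pushed along `f` is a shifted pullback
pushed along `δ`. -/
theorem nonempty_kernel_comparison [QuasiCompact f] [QuasiSeparated f] [QuasiCompact δ] [QuasiSeparated δ]
    {M : X.Modules} (hM : Coh.IsQCoh M) (m : ℤ) [DCoh.HasRpush f] [DCoh.HasRpush δ] [DCoh.HasLpull f]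
    [DCoh.HasLpull δ] [DCoh.HasLTensorMod M]
    (e : Nonempty ((DCoh.Rpush f).obj (DCoh.inD X M) ≅ (DCoh.Rpush δ).obj (DerivedCategory.Q.obj
      ((HomologicalComplex.single Z.Modules (ComplexShape.up ℤ) m).obj (Coh.structureModule Z))))) :
    Nonempty (ObjectProperty.ι (DCoh.IsQCohD (X := Y)) ⋙ DCoh.Lpull f ⋙ DCoh.LTensorMod M ⋙ DCoh.Rpush f ≅
      ObjectProperty.ι (DCoh.IsQCohD (X := Y)) ⋙ DCoh.Lpull δ ⋙ shiftFunctor (DCoh.D Z) (-m) ⋙
        DCoh.Rpush δ) := by
  obtain ⟨e⟩ := e
  let S := (HomologicalComplex.single X.Modules (ComplexShape.up ℤ) 0).obj M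
  let S' := (HomologicalComplex.single Z.Modules (ComplexShape.up ℤ) m).obj (Coh.structureModule Z)
  have hS : DCoh.IsQCohD (DerivedCategory.Q.obj S) := isQCohD_inD hM
  have hS' : DCoh.IsQCohD (DerivedCategory.Q.obj S') := by
    refine (isQCohD_Q_iff S').2 fun i => ?_
    by_cases hi : i = m
    · subst hi
      exact isQCoh_of_iso ((HomologicalComplex.homologyFunctorSingleIso Z.Modules (ComplexShape.up ℤ) i).app
        (Coh.structureModule Z)).symm QCoh.isQCoh_structureModule
    · exact KFlatLib.isQCoh_of_isZero (HomologicalComplex.ExactAt.isZero_homology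
        (HomologicalComplex.exactAt_single_obj _ _ _ _ hi))
  let A := (DCoh.Rpush f).obj (DerivedCategory.Q.obj S)
  let R := DerivedCategory.Q.objPreimage A
  obtain ⟨p⟩ := nonempty_proj f S hS R (DerivedCategory.Q.objObjPreimageIso A)
  obtain ⟨p'⟩ := nonempty_proj δ S' hS' R (DerivedCategory.Q.objObjPreimageIso A ≪≫ e)
  obtain ⟨t⟩ := nonempty_projH_twist f M
  obtain ⟨t'⟩ := nonempty_projH_unit δ m
  exact ⟨Functor.isoWhiskerLeft _ ((Functor.associator _ _ _).symm ≪≫ Functor.isoWhiskerRight t.symm _) ≪≫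
    p.symm ≪≫ p' ≪≫
    Functor.isoWhiskerLeft _ (Functor.isoWhiskerRight t' _ ≪≫ Functor.associator _ _ _)⟩

end Groth.Agent.FMX
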