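import Groth.Agent.FMX.Composite
import Groth.Agent.AVPoinc.FstPush
import Groth.Agent.KFlatLib.Scheme.RpushUnbounded
import Mathlib.CategoryTheory.Shift.Basic

/-!
The Fourier-Mukai transform of a Poincaré bundle: both composites with the transposed transform, and the equivalence.
-/

set_option autoImplicit false
set_option linter.style.haveILetI false
set_option linter.unusedSectionVars false
set_option backward.isDefEq.respectTransparency false
set_option backward.isDefEq.respectTransparency.types false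
set_option maxHeartbeats 1600000

universe u

open CategoryTheory CategoryTheory.Limits MonoidalCategory CartesianMonoidalCategory MonObj AlgebraicGeometry
attribute [local instance] HasDerivedCategory.standard

noncomputable section

namespace Groth.Agent.FMX

open KFlatLib Groth.Agent.AVPair
open scoped Groth.Agent.H23.PicMul

theorem pullbackSymmetry_eq_swap {S : Scheme.{u}} (X Y : Over S) :
    (pullbackSymmetry Y.hom X.hom).hom = (lift (snd Y X) (fst Y X) : Y ⊗ X ⟶ X ⊗ Y).left := by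
  refine pullback.hom_ext ?_ ?_
  · rw [pullbackSymmetry_hom_comp_fst, AVPoinc.swap_left_fst]
  · rw [pullbackSymmetry_hom_comp_snd, AVPoinc.swap_left_snd]

variable {k : Type u} [Field k] {A At : Over (Spec (CommRingCat.of k))} [GrpObj A] [IsProper A.hom] [Smooth A.hom]
  [GeometricallyConnected A.hom] [GrpObj At] [IsProper At.hom] [Smooth At.hom] [GeometricallyConnected At.hom]
  {φ : ∀ T : Over (Spec (CommRingCat.of k)), PicF.Cl (PicF.XT A.hom T) → (T ⟶ At)}
  (hφ : AbDual.IsDualAV Scheme.fppfPrecoverage A At φ) {P : (A ⊗ At).left.Modules} (hP : PicF.IsInvertible P)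
  (hξ : AbDual.IsPoincareCl A At φ (PicF.cl P)) {g : ℕ} (hg : topologicalKrullDim A.left = g)
  {P' : (At ⊗ A).left.Modules}
  (hP' : Nonempty (P' ≅ (Scheme.Modules.pullback (lift (snd At A) (fst At A)).left).obj P))
include hφ hP hξ hg hP'

/-- The transpose after the transform. -/
theorem nonempty_poincare_comp [DCoh.HasLpull (fst A At).left] [DCoh.HasLTensorMod P]
    [DCoh.HasRpush (snd A At).left] [DCoh.HasLpull (fst At A).left] [DCoh.HasLTensorMod P']
    [DCoh.HasRpush (snd At A).left] [DCoh.HasLpull ((𝟙 A)⁻¹).left] :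
    Nonempty (ObjectProperty.ι (DCoh.IsQCohD (X := A.left)) ⋙
        (DCoh.Lpull (fst A At).left ⋙ DCoh.LTensorMod P ⋙ DCoh.Rpush (snd A At).left) ⋙
        (DCoh.Lpull (fst At A).left ⋙ DCoh.LTensorMod P' ⋙ DCoh.Rpush (snd At A).left) ≅
      ObjectProperty.ι (DCoh.IsQCohD (X := A.left)) ⋙ DCoh.Lpull ((𝟙 A)⁻¹).left ⋙
        shiftFunctor (DCoh.D A.left) (-(g : ℤ))) := by
  haveI := AVDual.geometricallyIntegral_of_smooth A
  haveI := AVDual.geometricallyIntegral_of_smooth At
  haveI : HasInjectiveResolutions (A ⊗ At).left.Modules := hasInjectiveResolutions_modules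
  obtain ⟨h1, h2⟩ := AVDual.poincare_axes hφ hξ
  obtain ⟨hz, htop⟩ := AVPoinc.rpush_fst_poincare hφ hP hξ hg
  exact nonempty_transform_comp hP h1 h2 hP' hz htop

/-- The transform after the transpose. -/
theorem nonempty_poincare_comp' [DCoh.HasLpull (fst A At).left] [DCoh.HasLTensorMod P]
    [DCoh.HasRpush (snd A At).left] [DCoh.HasLpull (fst At A).left] [DCoh.HasLTensorMod P']
    [DCoh.HasRpush (snd At A).left] [DCoh.HasLpull ((𝟙 At)⁻¹).left] :
    Nonempty (ObjectProperty.ι (DCoh.IsQCohD (X := At.left)) ⋙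
        (DCoh.Lpull (fst At A).left ⋙ DCoh.LTensorMod P' ⋙ DCoh.Rpush (snd At A).left) ⋙
        (DCoh.Lpull (fst A At).left ⋙ DCoh.LTensorMod P ⋙ DCoh.Rpush (snd A At).left) ≅
      ObjectProperty.ι (DCoh.IsQCohD (X := At.left)) ⋙ DCoh.Lpull ((𝟙 At)⁻¹).left ⋙
        shiftFunctor (DCoh.D At.left) (-(g : ℤ))) := by
  haveI := AVDual.geometricallyIntegral_of_smooth A
  haveI := AVDual.geometricallyIntegral_of_smooth At
  haveI : HasInjectiveResolutions (A ⊗ At).left.Modules := hasInjectiveResolutions_modules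
  haveI : HasInjectiveResolutions (At ⊗ A).left.Modules := hasInjectiveResolutions_modules
  haveI : HasInjectiveResolutions (pullback A.hom At.hom).Modules := hasInjectiveResolutions_modules
  obtain ⟨h1, h2⟩ := AVDual.poincare_axes hφ hξ
  obtain ⟨-, hzero, -⟩ := AVPoinc.poincare_any_field hφ hP hξ hg
  obtain ⟨-, -, -, htop⟩ := AVPoinc.cohomology_poincare hφ hP hξ hg
  let s : At ⊗ A ⟶ A ⊗ At := lift (snd At A) (fst At A)
  let t : A ⊗ At ⟶ At ⊗ A := lift (snd A At) (fst A At)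
  haveI : IsIso s := ⟨t, by ext <;> simp [s, t], by ext <;> simp [s, t]⟩
  haveI : IsIso s.left := (inferInstance : IsIso ((Over.forget _).map s))
  haveI : IsProper (snd A At).left := inferInstanceAs (IsProper (pullback.snd A.hom At.hom))
  haveI := ProjUPX.isQCoh_of_isInvertible hP
  have hsq : IsPullback s.left (fst At A).left (snd A At).left (𝟙 At.left) :=
    IsPullback.of_horiz_isIso ⟨by rw [← Over.comp_left, Category.comp_id, lift_snd]⟩
  have hbc : ∀ p : ℕ, Nonempty ((Coh.Rpush (fst At A).left p).obj P' ≅ (Coh.Rpush (snd A At).left p).obj P) :=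
    fun p => by
      obtain ⟨e⟩ := Groth.Agent.S0033.result (snd A At).left (𝟙 At.left) s.left (fst At A).left hsq P p
      exact ⟨(Coh.Rpush (fst At A).left p).mapIso hP'.some ≪≫ e.symm ≪≫ (Scheme.Modules.pullbackId _).app _⟩
  have hP'i : PicF.IsInvertible P' :=
    H23.PicMul.isInvertible_of_iso hP'.some.symm (PicClLib.isInvertible_pullback _ hP)
  have hcl : PicF.cl P' = pl s (PicF.cl P) := H23.PicMul.cl_eq_iff.2 hP'
  refine nonempty_transform_comp hP'i ?_ ?_ ?_ (fun p hp => (hzero p hp).of_iso (hbc p).some)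
    ⟨(hbc g).some ≪≫ htop.some⟩
  · rw [hcl, pl_pl, comp_lift, lift_snd, lift_fst]
    exact h2
  · rw [hcl, pl_pl, comp_lift, lift_snd, lift_fst]
    exact h1
  · refine H23.PicMul.cl_eq_iff.1 ?_
    show PicF.cl P = pl t (PicF.cl P')
    rw [hcl, pl_pl, show t ≫ s = 𝟙 _ by ext <;> simp [s, t], pl_id]

end Groth.Agent.FMX

namespace Groth.Agent.FMX

open KFlatLib

/-- A functor with a left and a right inverse up to autoequivalences is an equivalence. -/
theorem isEquivalence_of_composites {C D : Type*} [Category C] [Category D] (F : C ⥤ D) (G : D ⥤ C)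
    (h₁ : (F ⋙ G).IsEquivalence) (h₂ : (G ⋙ F).IsEquivalence) : F.IsEquivalence := by
  haveI := h₁
  haveI := h₂
  haveI : F.Faithful := Functor.Faithful.of_comp F G
  haveI : G.Faithful := Functor.Faithful.of_comp G F
  exact
    { faithful := inferInstance
      full := ⟨fun {a b} f => ⟨(F ⋙ G).preimage (G.map f), G.map_injective ((F ⋙ G).map_preimage _)⟩⟩
      essSurj := ⟨fun d => ⟨G.obj ((G ⋙ F).objPreimage d), ⟨(G ⋙ F).objObjPreimageIso d⟩⟩⟩ }

/-- Composites of lifted functors are equivalences when they agree with a lifted equivalence. -/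
theorem isEquivalence_lift_comp {C D : Type*} [Category C] [Category D] {p : ObjectProperty C} {q : ObjectProperty D}
    (Φ : C ⥤ D) (Ψ : D ⥤ C) (T : C ⥤ C) (hΦ : ∀ M : p.FullSubcategory, q ((p.ι ⋙ Φ).obj M))
    (hΨ : ∀ M : q.FullSubcategory, p ((q.ι ⋙ Ψ).obj M)) (hT : ∀ M : p.FullSubcategory, p ((p.ι ⋙ T).obj M))
    (e : Nonempty (p.ι ⋙ Φ ⋙ Ψ ≅ p.ι ⋙ T)) (h : (p.lift (p.ι ⋙ T) hT).IsEquivalence) :
    (q.lift (p.ι ⋙ Φ) hΦ ⋙ p.lift (q.ι ⋙ Ψ) hΨ).IsEquivalence :=
  let i : p.lift (p.ι ⋙ T) hT ≅ q.lift (p.ι ⋙ Φ) hΦ ⋙ p.lift (q.ι ⋙ Ψ) hΨ :=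
    NatIso.ofComponents (fun M => ObjectProperty.isoMk _ (e.some.symm.app M))
      (fun f => ObjectProperty.hom_ext _ (e.some.inv.naturality f))
  haveI := h
  Functor.isEquivalence_of_iso i

/-- Integral transforms along quasi-compact quasi-separated morphisms preserve quasi-coherence. -/
theorem isQCohD_transform {V W T : Scheme.{u}} (a : V ⟶ W) (b : V ⟶ T) [QuasiCompact b] [QuasiSeparated b]
    {N : V.Modules} (hN : PicF.IsInvertible N) [DCoh.HasLpull a] [DCoh.HasLTensorMod N] [DCoh.HasRpush b]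
    (E : DCoh.D W) (hE : DCoh.IsQCohD E) :
    DCoh.IsQCohD ((DCoh.Lpull a ⋙ DCoh.LTensorMod N ⋙ DCoh.Rpush b).obj E) :=
  isQCohD_rpush b (isQCohD_ltm hN (isQCohD_lpull a hE))

variable {X : Scheme.{u}} (f : X ⟶ X) [IsIso f] (n : ℤ)

/-- A shifted pullback along an automorphism is an autoequivalence of quasi-coherent derived objects. -/
theorem isEquivalence_lift_lpull_shift [DCoh.HasLpull f]
    (h : ∀ M : DCoh.D X, DCoh.IsQCohD M → DCoh.IsQCohD ((DCoh.Lpull f ⋙ shiftFunctor (DCoh.D X) n).obj M)) :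
    (ObjectProperty.lift (DCoh.IsQCohD (X := X))
      (ObjectProperty.ι (DCoh.IsQCohD (X := X)) ⋙ DCoh.Lpull f ⋙ shiftFunctor (DCoh.D X) n)
      (fun M => h M.obj M.property)).IsEquivalence := by
  let σ := asIso f
  haveI : DCoh.HasLpull σ.hom := ‹DCoh.HasLpull f›
  haveI := hasLpull σ.inv
  haveI : DCoh.HasLpull σ.symm.hom := hasLpull _
  haveI : DCoh.HasLpull σ.symm.inv := hasLpull _
  obtain ⟨u⟩ := nonempty_lpull_inv σ
  obtain ⟨c⟩ := nonempty_lpull_inv σ.symm
  let E := CategoryTheory.Equivalence.mk (DCoh.Lpull σ.hom) (DCoh.Lpull σ.inv) c.symm u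
  haveI : (DCoh.Lpull σ.hom).IsEquivalence := E.isEquivalence_functor
  let T := DCoh.Lpull σ.hom ⋙ shiftFunctor (DCoh.D X) n
  haveI : T.IsEquivalence := inferInstanceAs (DCoh.Lpull σ.hom ⋙ shiftFunctor (DCoh.D X) n).IsEquivalence
  let L := ObjectProperty.lift (DCoh.IsQCohD (X := X)) (ObjectProperty.ι (DCoh.IsQCohD (X := X)) ⋙ T)
    (fun M => h M.obj M.property)
  let V := shiftFunctor (DCoh.D X) (-n) ⋙ DCoh.Lpull σ.inv
  show L.IsEquivalence
  exact
    { faithful := ⟨fun {a b} f f' e => ObjectProperty.hom_ext _ (T.map_injective (congrArg (fun t => t.hom) e))⟩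
      full := ⟨fun {a b} f => ⟨ObjectProperty.homMk (T.preimage f.hom), ObjectProperty.hom_ext _ (T.map_preimage _)⟩⟩
      essSurj := ⟨fun d => by
        let e : T.obj (V.obj d.obj) ≅ d.obj := (shiftFunctor (DCoh.D X) n).mapIso
            (E.counitIso.app ((shiftFunctor (DCoh.D X) (-n)).obj d.obj)) ≪≫
          (shiftFunctorCompIsoId (DCoh.D X) (-n) n (by omega)).app d.obj
        exact ⟨⟨V.obj d.obj, isQCohD_lpull σ.inv (isQCohD_shift d.property (-n))⟩,
          ⟨ObjectProperty.isoMk _ e⟩⟩⟩ }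

end Groth.Agent.FMX

namespace Groth.Agent.FMX

open KFlatLib Groth.Agent.AVPair

variable {k : Type u} [Field k] {A At : Over (Spec (CommRingCat.of k))} [GrpObj A] [IsProper A.hom] [Smooth A.hom]
  [GeometricallyConnected A.hom] [GrpObj At] [IsProper At.hom] [Smooth At.hom] [GeometricallyConnected At.hom]
  {φ : ∀ T : Over (Spec (CommRingCat.of k)), PicF.Cl (PicF.XT A.hom T) → (T ⟶ At)}
  (hφ : AbDual.IsDualAV Scheme.fppfPrecoverage A At φ) {P : (A ⊗ At).left.Modules} (hP : PicF.IsInvertible P)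
  (hξ : AbDual.IsPoincareCl A At φ (PicF.cl P))
include hφ hP hξ

/-- The Fourier-Mukai transform is an equivalence. -/
theorem isEquivalence_poincare [DCoh.HasLpull (fst A At).left] [DCoh.HasLTensorMod P]
    [DCoh.HasRpush (snd A At).left]
    (h : ∀ M : DCoh.D A.left, DCoh.IsQCohD M → DCoh.IsQCohD
      ((DCoh.Lpull (fst A At).left ⋙ DCoh.LTensorMod P ⋙ DCoh.Rpush (snd A At).left).obj M)) :
    (ObjectProperty.lift (DCoh.IsQCohD (X := At.left))
      (ObjectProperty.ι (DCoh.IsQCohD (X := A.left)) ⋙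
        (DCoh.Lpull (fst A At).left ⋙ DCoh.LTensorMod P ⋙ DCoh.Rpush (snd A At).left))
      (fun M => h M.obj M.property)).IsEquivalence := by
  haveI := AVDual.geometricallyIntegral_of_smooth A
  obtain ⟨g, hg⟩ := AVIdx.exists_dim A
  let P' := (Scheme.Modules.pullback (lift (snd At A) (fst At A)).left).obj P
  have hP'i : PicF.IsInvertible P' := PicClLib.isInvertible_pullback _ hP
  haveI := hasLpull (fst At A).left
  haveI := hasLTensorMod P'
  haveI := hasRpush_scheme (snd At A).left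
  haveI : IsProper (snd At A).left := inferInstanceAs (IsProper (pullback.snd At.hom A.hom))
  haveI : IsIso (𝟙 A)⁻¹ := ⟨(𝟙 A)⁻¹, by rw [GrpObj.comp_inv, Category.comp_id, inv_inv], by
    rw [GrpObj.comp_inv, Category.comp_id, inv_inv]⟩
  haveI : IsIso (𝟙 At)⁻¹ := ⟨(𝟙 At)⁻¹, by rw [GrpObj.comp_inv, Category.comp_id, inv_inv], by
    rw [GrpObj.comp_inv, Category.comp_id, inv_inv]⟩
  haveI : IsIso ((𝟙 A)⁻¹).left := (inferInstance : IsIso ((Over.forget _).map (𝟙 A)⁻¹))
  haveI : IsIso ((𝟙 At)⁻¹).left := (inferInstance : IsIso ((Over.forget _).map (𝟙 At)⁻¹))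
  haveI := hasLpull ((𝟙 A)⁻¹).left
  haveI := hasLpull ((𝟙 At)⁻¹).left
  have h' : ∀ M : DCoh.D At.left, DCoh.IsQCohD M → DCoh.IsQCohD
      ((DCoh.Lpull (fst At A).left ⋙ DCoh.LTensorMod P' ⋙ DCoh.Rpush (snd At A).left).obj M) := isQCohD_transform (fst At A).left (snd At A).left hP'i
  let F := ObjectProperty.lift (DCoh.IsQCohD (X := At.left))
      (ObjectProperty.ι (DCoh.IsQCohD (X := A.left)) ⋙
        (DCoh.Lpull (fst A At).left ⋙ DCoh.LTensorMod P ⋙ DCoh.Rpush (snd A At).left))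
      (fun M => h M.obj M.property)
  let G := ObjectProperty.lift (DCoh.IsQCohD (X := A.left))
      (ObjectProperty.ι (DCoh.IsQCohD (X := At.left)) ⋙
        (DCoh.Lpull (fst At A).left ⋙ DCoh.LTensorMod P' ⋙ DCoh.Rpush (snd At A).left))
      (fun M => h' M.obj M.property)
  obtain ⟨e⟩ := nonempty_poincare_comp hφ hP hξ hg (P' := P') ⟨Iso.refl _⟩
  obtain ⟨e'⟩ := nonempty_poincare_comp' hφ hP hξ hg (P' := P') ⟨Iso.refl _⟩
  have hL := isEquivalence_lift_lpull_shift ((𝟙 A)⁻¹).left (-(g : ℤ)) fun M hM => isQCohD_shift (isQCohD_lpull _ hM) _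
  have hL' := isEquivalence_lift_lpull_shift ((𝟙 At)⁻¹).left (-(g : ℤ)) fun M hM => isQCohD_shift (isQCohD_lpull _ hM) _
  exact isEquivalence_of_composites F G
    (isEquivalence_lift_comp _ _ _ _ _ _ ⟨e⟩ hL)
    (isEquivalence_lift_comp _ _ _ _ _ _ ⟨e'⟩ hL')

end Groth.Agent.FMX
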